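import Groth.Agent.Lib.Helper2.RootD.Weyl
import Mathlib.LinearAlgebra.RootSystem.Finite.Nondegenerate

/-!
# Root data: automorphisms fixing all roots
-/

set_option autoImplicit false

open Set Function

namespace Groth.Agent.Lib.Helper2.RootD

open _root_.RootD

variable {ι M N : Type*} [AddCommGroup M] [AddCommGroup N]

variable (P : RootPairing ι ℤ M N)

/-- An element of the root lattice killed by all coroots is zero. -/
lemma eq_zero_of_mem_rootSpan_of_coroot' [Finite ι] {x : M} (hx : x ∈ P.rootSpan ℤ)
    (h : ∀ i, P.coroot' i x = 0) : x = 0 := by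
  classical
  let _ := Fintype.ofFinite ι
  apply P.eq_zero_of_mem_rootSpan_of_rootForm_self_eq_zero hx
  rw [RootPairing.rootForm_apply_apply]
  exact Finset.sum_eq_zero fun i _ => by rw [h i, mul_zero]

lemma coroot'_aut_smul (u : P.Aut) (j : ι) (m : M) :
    P.coroot' j (u • m) = P.coroot' (u⁻¹ • j) m := by
  have h := RootPairing.Hom.weight_coweight_transpose_apply P P (P.coroot j) u.toHom
  have h2 := LinearMap.congr_fun h m
  have h3 := RootPairing.Hom.coroot_coweightMap_apply P P j u.toHom
  rw [h3] at h2
  exact h2

/-- An automorphism fixing all roots and moving every weight by an element of the rational span of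
the roots is trivial. -/
theorem aut_eq_one_of_fix [Finite ι] (u : P.Aut)
    (hs : ∀ m : M, ∃ n : ℕ, 0 < n ∧ n • (u • m - m) ∈ Submodule.span ℤ (Set.range P.root))
    (hfix : ∀ i : ι, u • i = i) : u = 1 := by
  have hM := isAddTorsionFree P
  have hfix' : ∀ i : ι, u⁻¹ • i = i := fun i => by
    conv_lhs => rw [← hfix i]
    rw [inv_smul_smul]
  apply RootPairing.Equiv.weightHom_injective P
  ext m
  obtain ⟨n, hn, hmem⟩ := hs m
  have h0 : n • (u • m - m) = 0 := by
    apply eq_zero_of_mem_rootSpan_of_coroot' P hmem
    intro i
    rw [map_nsmul, map_sub, coroot'_aut_smul, hfix' i, sub_self, smul_zero]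
  have h1 : u • m - m = 0 := by
    rcases smul_eq_zero.mp h0 with h | h
    · omega
    · exact h
  rw [map_one]
  exact sub_eq_zero.mp h1

/-- Elements of the Weyl group move every weight by an element of the root lattice. -/
lemma weyl_smul_sub_mem_rootSpan {g : P.Aut} (hg : g ∈ P.weylGroup) (m : M) :
    g • m - m ∈ Submodule.span ℤ (Set.range P.root) := by
  induction hg using RootPairing.weylGroup.induction generalizing m with
  | mem i =>
    rw [RootPairing.Equiv.reflection_smul, RootPairing.reflection_apply]
    have : m - (P.coroot' i m) • P.root i - m =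
        -((P.coroot' i m) • P.root i) := by abel
    rw [this]
    exact Submodule.neg_mem _ (Submodule.smul_mem _ _ (Submodule.subset_span ⟨i, rfl⟩))
  | one => rw [one_smul, sub_self]; exact Submodule.zero_mem _
  | mul g h hg hh ihg ihh =>
    have h1 : (g * h) • m - m = (g • (h • m) - h • m) + (h • m - m) := by
      rw [mul_smul]; abel
    rw [h1]
    exact Submodule.add_mem _ (ihg _) (ihh _)

/-- The Weyl group acts faithfully on the roots. -/
theorem weyl_eq_one_of_fix [Finite ι] {g : P.Aut} (hg : g ∈ P.weylGroup)
    (hfix : ∀ i : ι, g • i = i) : g = 1 :=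
  aut_eq_one_of_fix P g (fun m => ⟨1, one_pos, by
    rw [one_smul]; exact weyl_smul_sub_mem_rootSpan P hg m⟩) hfix

end Groth.Agent.Lib.Helper2.RootD
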