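import Mathlib
import Groth.Prelude.Def_W4sga3xxiRoot

/-!
# Root data (SGA3 XXI): coordinates with respect to a simple system (root-only sense)

Library for the `RootD` family of statements.  Everything is over `ℤ`.
-/

set_option autoImplicit false

open Set Function

namespace Groth.Agent.Lib.Helper2.RootD

open _root_.RootD

variable {ι M N : Type*} [AddCommGroup M] [AddCommGroup N]

section Basic

variable (P : RootPairing ι ℤ M N)

lemma root_neg (i : ι) : P.root (P.reflectionPerm i i) = -P.root i := by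
  rw [RootPairing.root_reflectionPerm, RootPairing.reflection_apply_self]

lemma root_reflectionPerm' (i k : ι) :
    P.root (P.reflectionPerm i k) = P.root k - P.pairing k i • P.root i := by
  rw [RootPairing.root_reflectionPerm, RootPairing.reflection_apply_root]

include P in
lemma isAddTorsionFree : IsAddTorsionFree M := by
  have : Module.IsReflexive ℤ M := .of_isPerfPair P.toLinearMap
  exact .of_isTorsionFree ℤ M

lemma root_mem_natSpan {Δ : Set ι} {i : ι} (hi : i ∈ Δ) : P.root i ∈ natSpan P Δ :=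
  AddSubmonoid.subset_closure ⟨i, hi, rfl⟩

lemma natSpan_mono {S T : Set ι} (h : S ⊆ T) : natSpan P S ≤ natSpan P T :=
  AddSubmonoid.closure_mono (Set.image_mono h)

/-- If every root of `S` lies in `natSpan T` then `natSpan S ≤ natSpan T`. -/
lemma natSpan_le_of_forall {S T : Set ι} (h : ∀ i ∈ S, P.root i ∈ natSpan P T) :
    natSpan P S ≤ natSpan P T := by
  apply AddSubmonoid.closure_le.mpr
  rintro _ ⟨i, hi, rfl⟩
  exact h i hi

end Basic

section Coord

variable {P : RootPairing ι ℤ M N} {Δ : Set ι}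

/-- The ℤ-span of the roots indexed by `Δ`. -/
def spanOf (P : RootPairing ι ℤ M N) (Δ : Set ι) : Submodule ℤ M :=
  Submodule.span ℤ (Set.range (fun δ : Δ => P.root δ))

lemma natSpan_le_spanOf : ∀ x ∈ natSpan P Δ, x ∈ spanOf P Δ := by
  intro x hx
  induction hx using AddSubmonoid.closure_induction with
  | mem y hy => obtain ⟨i, hi, rfl⟩ := hy; exact Submodule.subset_span ⟨⟨i, hi⟩, rfl⟩
  | zero => exact Submodule.zero_mem _
  | add y z _ _ hy hz => exact Submodule.add_mem _ hy hz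

/-- The basis of `spanOf P Δ` given by the roots of a linearly independent `Δ`. -/
noncomputable def basisOf (hli : LinearIndepOn ℤ P.root Δ) : Module.Basis Δ ℤ (spanOf P Δ) :=
  Module.Basis.span hli

lemma basisOf_apply (hli : LinearIndepOn ℤ P.root Δ) (δ : Δ) :
    ((basisOf hli δ : spanOf P Δ) : M) = P.root δ :=
  congrArg Subtype.val (Module.Basis.span_apply hli δ)

lemma repr_nonneg_of_mem_natSpan (hli : LinearIndepOn ℤ P.root Δ) (δ : Δ) :
    ∀ y ∈ natSpan P Δ, ∀ h : y ∈ spanOf P Δ, 0 ≤ (basisOf hli).repr ⟨y, h⟩ δ := by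
  classical
  intro y hy
  induction hy using AddSubmonoid.closure_induction with
  | mem y hy =>
    obtain ⟨i, hi, rfl⟩ := hy
    intro h
    have : (⟨P.root i, h⟩ : spanOf P Δ) = basisOf hli ⟨i, hi⟩ :=
      Subtype.ext (basisOf_apply hli ⟨i, hi⟩).symm
    rw [this, Module.Basis.repr_self, Finsupp.single_apply]
    split_ifs <;> norm_num
  | zero =>
    intro h
    have : (⟨0, h⟩ : spanOf P Δ) = 0 := rfl
    rw [this, map_zero]; simp
  | add y z hy hz ihy ihz =>
    intro h
    have hy' := natSpan_le_spanOf y hy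
    have hz' := natSpan_le_spanOf z hz
    have : (⟨y + z, h⟩ : spanOf P Δ) = ⟨y, hy'⟩ + ⟨z, hz'⟩ := rfl
    rw [this, map_add, Finsupp.add_apply]
    exact add_nonneg (ihy hy') (ihz hz')

lemma mem_natSpan_of_repr_nonneg (hli : LinearIndepOn ℤ P.root Δ) (x : spanOf P Δ)
    (h : ∀ δ, 0 ≤ (basisOf hli).repr x δ) : (x : M) ∈ natSpan P Δ := by
  have hx := (basisOf hli).linearCombination_repr x
  have hx' : (x : M) = ((basisOf hli).repr x).sum fun δ a => a • P.root δ := by
    conv_lhs => rw [← hx]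
    rw [Finsupp.linearCombination_apply, Finsupp.sum, Finsupp.sum, Submodule.coe_sum]
    refine Finset.sum_congr rfl fun δ _ => ?_
    rw [Submodule.coe_smul, basisOf_apply]
  rw [hx', Finsupp.sum]
  refine AddSubmonoid.sum_mem _ fun δ _ => ?_
  have h1 : ((basisOf hli).repr x δ) = (((basisOf hli).repr x δ).toNat : ℤ) :=
    (Int.toNat_of_nonneg (h δ)).symm
  rw [h1, natCast_zsmul]
  exact AddSubmonoid.nsmul_mem _ (root_mem_natSpan P δ.2) _

end Coord

section Simple

variable {P : RootPairing ι ℤ M N} {Δ : Set ι} (hΔ : IsSimpleSys P Δ)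

include hΔ in
lemma root_mem_spanOf (k : ι) : P.root k ∈ spanOf P Δ := by
  rcases hΔ.mem_or_neg_mem k with h | h
  · exact natSpan_le_spanOf _ h
  · have := (spanOf P Δ).neg_mem (natSpan_le_spanOf _ h)
    simpa using this

/-- A root, as an element of the span of `Δ`. -/
def rootL (k : ι) : spanOf P Δ := ⟨P.root k, root_mem_spanOf hΔ k⟩

@[simp] lemma coe_rootL (k : ι) : ((rootL hΔ k : spanOf P Δ) : M) = P.root k := rfl

/-- The coefficients of a root along the simple system `Δ`. -/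
noncomputable def coef (k : ι) : Δ →₀ ℤ := (basisOf hΔ.linInd).repr (rootL hΔ k)

lemma coef_nonneg_of_mem_posOf {k : ι} (hk : k ∈ posOf P Δ) (δ : Δ) : 0 ≤ coef hΔ k δ :=
  repr_nonneg_of_mem_natSpan hΔ.linInd δ _ hk _

lemma coef_nonpos_of_neg_mem {k : ι} (hk : -P.root k ∈ natSpan P Δ) (δ : Δ) : coef hΔ k δ ≤ 0 := by
  have h1 := repr_nonneg_of_mem_natSpan hΔ.linInd δ _ hk ((spanOf P Δ).neg_mem (root_mem_spanOf hΔ k))
  have h2 : (⟨-P.root k, (spanOf P Δ).neg_mem (root_mem_spanOf hΔ k)⟩ : spanOf P Δ) = -rootL hΔ k := rfl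
  rw [h2, map_neg, Finsupp.neg_apply] at h1
  unfold coef
  linarith

lemma coef_nonneg_or_nonpos (k : ι) : (∀ δ, 0 ≤ coef hΔ k δ) ∨ (∀ δ, coef hΔ k δ ≤ 0) := by
  rcases hΔ.mem_or_neg_mem k with h | h
  · exact Or.inl (coef_nonneg_of_mem_posOf hΔ h)
  · exact Or.inr (coef_nonpos_of_neg_mem hΔ h)

lemma mem_posOf_iff (k : ι) : k ∈ posOf P Δ ↔ ∀ δ, 0 ≤ coef hΔ k δ :=
  ⟨fun hk => coef_nonneg_of_mem_posOf hΔ hk,
   fun h => mem_natSpan_of_repr_nonneg hΔ.linInd (rootL hΔ k) h⟩

lemma neg_mem_natSpan_iff (k : ι) : -P.root k ∈ natSpan P Δ ↔ ∀ δ, coef hΔ k δ ≤ 0 := by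
  refine ⟨fun hk => coef_nonpos_of_neg_mem hΔ hk, fun h => ?_⟩
  have := mem_natSpan_of_repr_nonneg hΔ.linInd (-rootL hΔ k) (fun δ => by
    rw [map_neg, Finsupp.neg_apply]; have := h δ; unfold coef at this; linarith)
  simpa using this

lemma coef_ne_zero (k : ι) : coef hΔ k ≠ 0 := by
  intro h
  have h1 : rootL hΔ k = 0 := (basisOf hΔ.linInd).repr.map_eq_zero_iff.mp h
  have h2 : P.root k = 0 := congrArg Subtype.val h1
  exact P.ne_zero k h2

lemma coef_of_mem (δ : Δ) : coef hΔ δ = Finsupp.single δ 1 := by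
  have : rootL hΔ δ = basisOf hΔ.linInd δ := Subtype.ext (basisOf_apply hΔ.linInd δ).symm
  unfold coef
  rw [this, Module.Basis.repr_self]

lemma coef_add {k i j : ι} (h : P.root k = P.root i + P.root j) :
    coef hΔ k = coef hΔ i + coef hΔ j := by
  have : rootL hΔ k = rootL hΔ i + rootL hΔ j := Subtype.ext h
  unfold coef
  rw [this, map_add]

lemma coef_sub {k i j : ι} (h : P.root k = P.root i - P.root j) :
    coef hΔ k = coef hΔ i - coef hΔ j := by
  have : rootL hΔ k = rootL hΔ i - rootL hΔ j := Subtype.ext h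
  unfold coef
  rw [this, map_sub]

lemma coef_smul {k i : ι} {n : ℤ} (h : P.root k = n • P.root i) :
    coef hΔ k = n • coef hΔ i := by
  have : rootL hΔ k = n • rootL hΔ i := Subtype.ext h
  unfold coef
  rw [this, map_smul]

lemma coef_neg (i : ι) : coef hΔ (P.reflectionPerm i i) = -coef hΔ i := by
  have : rootL hΔ (P.reflectionPerm i i) = -rootL hΔ i := Subtype.ext (root_neg P i)
  unfold coef
  rw [this, map_neg]

lemma coef_reflectionPerm (i k : ι) :
    coef hΔ (P.reflectionPerm i k) = coef hΔ k - P.pairing k i • coef hΔ i := by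
  have : rootL hΔ (P.reflectionPerm i k) = rootL hΔ k - P.pairing k i • rootL hΔ i :=
    Subtype.ext (root_reflectionPerm' P i k)
  unfold coef
  rw [this, map_sub, map_smul]

/-- If two roots have the same coefficients they are equal. -/
lemma eq_of_coef_eq {i j : ι} (h : coef hΔ i = coef hΔ j) : i = j := by
  have h1 : rootL hΔ i = rootL hΔ j := (basisOf hΔ.linInd).repr.injective h
  exact P.root.injective (congrArg Subtype.val h1)

/-- The sum-of-coefficients functional. -/
noncomputable def htL (Δ : Set ι) : (Δ →₀ ℤ) →ₗ[ℤ] ℤ := Finsupp.linearCombination ℤ (fun _ : Δ => (1 : ℤ))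

lemma htL_apply (c : Δ →₀ ℤ) : htL Δ c = c.sum fun _ a => a := by
  unfold htL
  rw [Finsupp.linearCombination_apply]
  simp

lemma htL_single (δ : Δ) (a : ℤ) : htL Δ (Finsupp.single δ a) = a := by
  unfold htL
  rw [Finsupp.linearCombination_single]; simp

lemma htL_nonneg {c : Δ →₀ ℤ} (hc : ∀ δ, 0 ≤ c δ) : 0 ≤ htL Δ c := by
  rw [htL_apply, Finsupp.sum]
  exact Finset.sum_nonneg fun δ _ => hc δ

lemma htL_pos {c : Δ →₀ ℤ} (hc : ∀ δ, 0 ≤ c δ) (hne : c ≠ 0) : 0 < htL Δ c := by
  rw [htL_apply, Finsupp.sum]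
  obtain ⟨δ, hδ⟩ : ∃ δ, c δ ≠ 0 := by
    by_contra hcon
    push Not at hcon
    exact hne (Finsupp.ext hcon)
  have hδ' : δ ∈ c.support := Finsupp.mem_support_iff.mpr hδ
  have hpos : 0 < c δ := lt_of_le_of_ne (hc δ) (Ne.symm hδ)
  exact Finset.sum_pos' (fun δ _ => hc δ) ⟨δ, hδ', hpos⟩

/-- The height of a root along `Δ`. -/
noncomputable def ht (k : ι) : ℤ := htL Δ (coef hΔ k)

lemma ht_pos_of_mem_posOf {k : ι} (hk : k ∈ posOf P Δ) : 0 < ht hΔ k :=
  htL_pos (coef_nonneg_of_mem_posOf hΔ hk) (coef_ne_zero hΔ k)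

lemma ht_of_mem (δ : Δ) : ht hΔ δ = 1 := by
  unfold ht
  rw [coef_of_mem, htL_single]

lemma ht_add {k i j : ι} (h : P.root k = P.root i + P.root j) : ht hΔ k = ht hΔ i + ht hΔ j := by
  unfold ht
  rw [coef_add hΔ h, map_add]

lemma mem_posOf_of_mem {δ : ι} (hδ : δ ∈ Δ) : δ ∈ posOf P Δ := root_mem_natSpan P hδ

/-- A root with one positive coefficient is positive. -/
lemma mem_posOf_of_coef_pos {k : ι} {δ : Δ} (h : 0 < coef hΔ k δ) : k ∈ posOf P Δ := by
  rcases coef_nonneg_or_nonpos hΔ k with h1 | h1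
  · exact (mem_posOf_iff hΔ k).mpr h1
  · exact absurd (h1 δ) (not_le.mpr h)

include hΔ in
/-- Either a root or its opposite is positive, not both. -/
lemma not_mem_posOf_neg {k : ι} (hk : k ∈ posOf P Δ) : P.reflectionPerm k k ∉ posOf P Δ := by
  intro hk'
  have h1 := coef_nonneg_of_mem_posOf hΔ hk
  have h2 := coef_nonneg_of_mem_posOf hΔ hk'
  rw [coef_neg] at h2
  apply coef_ne_zero hΔ k
  ext δ
  have := h1 δ
  have := h2 δ
  simp only [Finsupp.neg_apply] at this
  simp only [Finsupp.coe_zero, Pi.zero_apply]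
  linarith

include hΔ in
lemma mem_posOf_or_neg (k : ι) : k ∈ posOf P Δ ∨ P.reflectionPerm k k ∈ posOf P Δ := by
  rcases hΔ.mem_or_neg_mem k with h | h
  · exact Or.inl h
  · right
    show P.root (P.reflectionPerm k k) ∈ natSpan P Δ
    rw [root_neg]; exact h

end Simple

end Groth.Agent.Lib.Helper2.RootD
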