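import Groth.Agent.Lib.Helper2.RootD.Simple

/-!
# Root data: a root which is a positive combination of roots is reached by a chain of roots
-/

set_option autoImplicit false

open Set Function

namespace Groth.Agent.Lib.Helper2.RootD

open _root_.RootD

variable {ι M N : Type*} [AddCommGroup M] [AddCommGroup N]

variable (P : RootPairing ι ℤ M N)

theorem exists_chain_nat [Finite ι] {n : ℕ} (a : Fin n → ι) :
    ∀ T : ℕ, ∀ (m : Fin n → ℕ) (k : ι), ∑ i, m i = T → P.root k = ∑ i, m i • P.root (a i) →
      ∃ (l : ℕ) (c : ℕ → Fin n), 0 < l ∧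
        (∀ p < l, ∃ j : ι, P.root j = ∑ t ∈ Finset.range (p + 1), P.root (a (c t))) ∧
        P.root k = ∑ t ∈ Finset.range l, P.root (a (c t)) := by
  classical
  intro T
  induction T with
  | zero =>
    intro m k hT hk
    exfalso
    apply P.ne_zero k
    rw [hk]
    apply Finset.sum_eq_zero
    intro i _
    have : m i = 0 := by
      have := Finset.sum_eq_zero_iff.mp hT i (Finset.mem_univ i)
      exact this
    rw [this, zero_smul]
  | succ T ih =>
    intro m k hT hk
    -- find an index with positive pairing
    have h2 : (2 : ℤ) = ∑ i, (m i : ℤ) * P.pairing (a i) k := by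
      have := congrArg (P.coroot' k) hk
      rw [P.root_coroot'_eq_pairing, P.pairing_same, map_sum] at this
      rw [this]
      refine Finset.sum_congr rfl fun i _ => ?_
      rw [map_nsmul, P.root_coroot'_eq_pairing, nsmul_eq_mul]
    obtain ⟨i, hi⟩ : ∃ i, 0 < (m i : ℤ) * P.pairing (a i) k := by
      by_contra hcon
      push Not at hcon
      have : ∑ i, (m i : ℤ) * P.pairing (a i) k ≤ 0 := Finset.sum_nonpos fun i _ => hcon i
      omega
    have hmi : 0 < m i := by
      rcases Nat.eq_zero_or_pos (m i) with h | h
      · rw [h] at hi; simp at hi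
      · exact h
    have hpi : 0 < P.pairing (a i) k := by
      have : (0 : ℤ) < (m i : ℤ) := by exact_mod_cast hmi
      exact (mul_pos_iff_of_pos_left this).mp hi
    by_cases hik : a i = k
    · refine ⟨1, fun _ => i, one_pos, ?_, ?_⟩
      · intro p hp
        have : p = 0 := by omega
        subst this
        exact ⟨k, by simp [hik]⟩
      · simp [hik]
    · have hpi' : 0 < P.pairingIn ℤ (a i) k := by rw [pairingIn_int]; exact hpi
      obtain ⟨k'', hk''⟩ := P.root_sub_root_mem_of_pairingIn_pos hpi' hik
      set k' := P.reflectionPerm k'' k'' with hk'def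
      have hk' : P.root k' = P.root k - P.root (a i) := by
        rw [hk'def, root_neg, hk'']; abel
      set δ : Fin n → ℕ := fun j => if j = i then 1 else 0 with hδ
      set m' : Fin n → ℕ := fun j => m j - δ j with hm'
      have hm : ∀ j, m j = m' j + δ j := by
        intro j
        simp only [hm', hδ]
        split_ifs with h
        · subst h; omega
        · omega
      have hT' : ∑ j, m' j = T := by
        have : ∑ j, m j = ∑ j, m' j + ∑ j, δ j := by
          rw [← Finset.sum_add_distrib]
          exact Finset.sum_congr rfl fun j _ => hm j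
        rw [hT] at this
        have h1 : ∑ j, δ j = 1 := by simp [hδ]
        omega
      have hkm' : P.root k' = ∑ j, m' j • P.root (a j) := by
        have : ∑ j, m j • P.root (a j) = ∑ j, m' j • P.root (a j) + P.root (a i) := by
          have h1 : ∑ j, δ j • P.root (a j) = P.root (a i) := by
            simp [hδ, ite_smul]
          rw [← h1, ← Finset.sum_add_distrib]
          refine Finset.sum_congr rfl fun j _ => ?_
          rw [← add_smul, ← hm j]
        rw [hk', hk, this]; abel
      obtain ⟨l', c', hl', hchain, htot⟩ := ih m' k' hT' hkm'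
      obtain ⟨c, hc1, hc2⟩ : ∃ c : ℕ → Fin n, (∀ t, t < l' → c t = c' t) ∧ c l' = i :=
        ⟨fun t => if t < l' then c' t else i, fun t ht => if_pos ht, if_neg (lt_irrefl _)⟩
      have hsum : ∀ p ≤ l', ∑ t ∈ Finset.range p, P.root (a (c t)) =
          ∑ t ∈ Finset.range p, P.root (a (c' t)) := by
        intro p hp
        refine Finset.sum_congr rfl fun t ht => ?_
        rw [hc1 t (lt_of_lt_of_le (Finset.mem_range.mp ht) hp)]
      refine ⟨l' + 1, c, Nat.succ_pos _, ?_, ?_⟩
      · intro p hp
        rcases Nat.lt_succ_iff_lt_or_eq.mp hp with h | h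
        · obtain ⟨j, hj⟩ := hchain p h
          exact ⟨j, by rw [hj, hsum (p + 1) h]⟩
        · subst h
          refine ⟨k, ?_⟩
          rw [Finset.sum_range_succ, hc2, hsum p le_rfl, ← htot, hk']; abel
      · rw [Finset.sum_range_succ, hc2, hsum l' le_rfl, ← htot, hk']; abel

/-- If a root is a positive integer combination of roots `α_i`, it is reached from `0` by
successively adding some of the `α_i`, every partial sum being a root. -/
theorem exists_chain [Finite ι] {n : ℕ} (a : Fin n → ι) (m : Fin n → ℕ) (k : ι)
    (hk : P.root k = ∑ i, m i • P.root (a i)) :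
    ∃ (l : ℕ) (b : Fin l → Fin n), 0 < l ∧
      (∀ p : Fin l, ∃ j : ι, P.root j =
        ∑ q ∈ Finset.univ.filter (fun q : Fin l => q.val ≤ p.val), P.root (a (b q))) ∧
      P.root k = ∑ q, P.root (a (b q)) := by
  classical
  obtain ⟨l, c, hl, hchain, htot⟩ := exists_chain_nat P a _ m k rfl hk
  refine ⟨l, fun q => c q.val, hl, ?_, ?_⟩
  · intro p
    obtain ⟨j, hj⟩ := hchain p.val p.2
    refine ⟨j, ?_⟩
    rw [hj]
    symm
    have himg : (Finset.univ.filter (fun q : Fin l => q.val ≤ p.val)).image Fin.val =
        Finset.range (p.val + 1) := by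
      ext t
      simp only [Finset.mem_image, Finset.mem_filter, Finset.mem_univ, true_and, Finset.mem_range]
      constructor
      · rintro ⟨q, hq, rfl⟩; omega
      · intro ht
        exact ⟨⟨t, by omega⟩, by simp; omega, rfl⟩
    rw [← himg, Finset.sum_image]
    intro x _ y _ hxy
    exact Fin.ext hxy
  · rw [htot]
    exact (Fin.sum_univ_eq_sum_range (fun t => P.root (a (c t))) l).symm

end Groth.Agent.Lib.Helper2.RootD
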