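import Groth.Agent.Lib.Helper2.RootD.Weyl

/-!
# Root data: a linearly independent indivisible set spanning the rational cone is a simple system
-/

set_option autoImplicit false

open Set Function

namespace Groth.Agent.Lib.Helper2.RootD

open _root_.RootD

variable {ι M N : Type*} [AddCommGroup M] [AddCommGroup N]

section

variable (P : RootPairing ι ℤ M N)

lemma mem_natSpan_iff_exists_finsupp (S : Set ι) (x : M) :
    x ∈ natSpan P S ↔ ∃ d : ι →₀ ℕ, ↑d.support ⊆ S ∧ (d.sum fun i a => a • P.root i) = x := by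
  have h1 : x ∈ natSpan P S ↔ x ∈ Submodule.span ℕ (P.root '' S) := by
    rw [← Submodule.mem_toAddSubmonoid, Submodule.span_nat_eq_addSubmonoidClosure]
    rfl
  rw [h1, Finsupp.mem_span_image_iff_linearCombination]
  constructor
  · rintro ⟨d, hd, rfl⟩
    exact ⟨d, (Finsupp.mem_supported _ _).mp hd, (Finsupp.linearCombination_apply ℕ d).symm⟩
  · rintro ⟨d, hd, rfl⟩
    exact ⟨d, (Finsupp.mem_supported _ _).mpr hd, Finsupp.linearCombination_apply ℕ d⟩

variable {P} {Δ : Set ι}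

lemma eq_zero_of_add_eq_zero_of_mem_natSpan (hli : LinearIndepOn ℤ P.root Δ) {x y : M}
    (hx : x ∈ natSpan P Δ) (hy : y ∈ natSpan P Δ) (h : x + y = 0) : x = 0 := by
  have hx' := natSpan_le_spanOf x hx
  have hy' := natSpan_le_spanOf y hy
  have h0 : (⟨x, hx'⟩ : spanOf P Δ) + ⟨y, hy'⟩ = 0 := Subtype.ext h
  have h1 : (⟨x, hx'⟩ : spanOf P Δ) = 0 := by
    apply (basisOf hli).repr.injective
    ext δ
    have hxδ := repr_nonneg_of_mem_natSpan hli δ x hx hx'
    have hyδ := repr_nonneg_of_mem_natSpan hli δ y hy hy'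
    have := congrArg (fun z => (basisOf hli).repr z δ) h0
    simp only [map_add, Finsupp.add_apply, map_zero, Finsupp.zero_apply] at this
    simp only [map_zero, Finsupp.zero_apply]
    omega
  exact congrArg Subtype.val h1

/-- The roots in the rational cone of `Δ`. -/
def coneOf (P : RootPairing ι ℤ M N) (Δ : Set ι) : Set ι :=
  {k | ∃ n : ℕ, 0 < n ∧ n • P.root k ∈ natSpan P Δ}

lemma exists_nsmul_mem_of_mem_natSpan_coneOf {x : M} (hx : x ∈ natSpan P (coneOf P Δ)) :
    ∃ n : ℕ, 0 < n ∧ n • x ∈ natSpan P Δ := by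
  induction hx using AddSubmonoid.closure_induction with
  | mem y hy =>
    obtain ⟨k, hk, rfl⟩ := hy
    exact hk
  | zero => exact ⟨1, one_pos, by rw [smul_zero]; exact zero_mem _⟩
  | add y z _ _ hy hz =>
    obtain ⟨n₁, hn₁, h₁⟩ := hy
    obtain ⟨n₂, hn₂, h₂⟩ := hz
    refine ⟨n₁ * n₂, Nat.mul_pos hn₁ hn₂, ?_⟩
    rw [smul_add]
    apply add_mem
    · rw [mul_comm, mul_smul]; exact AddSubmonoid.nsmul_mem _ h₁ _
    · rw [mul_smul]; exact AddSubmonoid.nsmul_mem _ h₂ _

lemma isPosSys_coneOf (hli : LinearIndepOn ℤ P.root Δ)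
    (hcone : ∀ k : ι, ∃ n : ℕ, 0 < n ∧
      (n • P.root k ∈ natSpan P Δ ∨ n • (-P.root k) ∈ natSpan P Δ)) :
    IsPosSys P (coneOf P Δ) where
  disjoint := by
    have hM := isAddTorsionFree P
    rintro k ⟨n, hn, hk⟩ ⟨n', hn', hk'⟩
    rw [root_neg] at hk'
    have h1 : n' • (n • P.root k) ∈ natSpan P Δ := AddSubmonoid.nsmul_mem _ hk _
    have h2 : n • (n' • (-P.root k)) ∈ natSpan P Δ := AddSubmonoid.nsmul_mem _ hk' _
    have h3 : n' • (n • P.root k) + n • (n' • (-P.root k)) = 0 := by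
      rw [smul_neg, smul_neg, smul_comm n n']; abel
    have h4 := eq_zero_of_add_eq_zero_of_mem_natSpan hli h1 h2 h3
    rw [smul_smul] at h4
    rcases smul_eq_zero.mp h4 with h | h
    · have := Nat.mul_pos hn' hn; omega
    · exact P.ne_zero k h
  cover := by
    intro k
    obtain ⟨n, hn, h | h⟩ := hcone k
    · exact Or.inl ⟨n, hn, h⟩
    · exact Or.inr ⟨n, hn, by rw [root_neg]; exact h⟩
  sat := by
    intro k n hn hmem
    obtain ⟨n', hn', h⟩ := exists_nsmul_mem_of_mem_natSpan_coneOf hmem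
    exact ⟨n' * n, Nat.mul_pos hn' hn, by rw [mul_smul]; exact h⟩

/-- Main step: a simple system `Δ₁` whose positive roots are the cone of `Δ` is contained in `Δ`
when the elements of `Δ` are indivisible. -/
lemma subset_of_posOf_eq_coneOf [Finite ι] {Δ₁ : Set ι} (hΔ₁ : IsSimpleSys P Δ₁)
    (hind : ∀ i ∈ Δ, IsIndiv P i) (hS : coneOf P Δ = posOf P Δ₁) : Δ₁ ⊆ Δ := by
  classical
  have hM := isAddTorsionFree P
  intro γ hγ
  have hγS : γ ∈ coneOf P Δ := hS ▸ mem_posOf_of_mem hγ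
  obtain ⟨n, hn, hmem⟩ := hγS
  obtain ⟨d, hd, hsum⟩ := (mem_natSpan_iff_exists_finsupp P Δ _).mp hmem
  -- coordinates along `Δ₁`
  have hcoord : (n : ℤ) • coef hΔ₁ γ = d.sum fun i a => (a : ℤ) • coef hΔ₁ i := by
    have h1 : (n : ℤ) • rootL hΔ₁ γ = d.sum fun i a => (a : ℤ) • rootL hΔ₁ i := by
      apply Subtype.ext
      rw [Submodule.coe_smul, coe_rootL, Finsupp.sum, Submodule.coe_sum, natCast_zsmul, ← hsum,
        Finsupp.sum]
      refine Finset.sum_congr rfl fun i _ => ?_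
      rw [Submodule.coe_smul, coe_rootL, natCast_zsmul]
    have h2 := congrArg (basisOf hΔ₁.linInd).repr h1
    rw [map_smul, Finsupp.sum, map_sum] at h2
    rw [Finsupp.sum]
    unfold coef
    rw [h2]
    refine Finset.sum_congr rfl fun i _ => ?_
    rw [map_smul]
  -- some coefficient `d δ` is nonzero
  obtain ⟨δ, hδ⟩ : ∃ δ, d δ ≠ 0 := by
    by_contra hcon
    push Not at hcon
    have : d = 0 := Finsupp.ext hcon
    rw [this, Finsupp.sum_zero_index] at hsum
    rcases smul_eq_zero.mp hsum.symm with h | h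
    · omega
    · exact P.ne_zero γ h
  have hδΔ : δ ∈ Δ := hd (Finsupp.mem_support_iff.mpr hδ)
  have hδS : δ ∈ posOf P Δ₁ := by
    rw [← hS]
    exact ⟨1, one_pos, by rw [one_smul]; exact root_mem_natSpan P hδΔ⟩
  -- the coordinates of `δ` vanish outside `γ`
  have hzero : ∀ γ' : Δ₁, γ' ≠ ⟨γ, hγ⟩ → coef hΔ₁ δ γ' = 0 := by
    intro γ' hγ'
    have h1 := congrArg (fun c => c γ') hcoord
    simp only [Finsupp.smul_apply, Finsupp.sum, Finsupp.finsetSum_apply] at h1
    rw [coef_of_mem hΔ₁ ⟨γ, hγ⟩, Finsupp.single_apply, if_neg (Ne.symm hγ'), smul_zero] at h1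
    have hnn : ∀ i ∈ d.support, 0 ≤ ((d i : ℤ) • coef hΔ₁ i) γ' := by
      intro i hi
      have hiS : i ∈ posOf P Δ₁ := by
        rw [← hS]
        exact ⟨1, one_pos, by rw [one_smul]; exact root_mem_natSpan P (hd hi)⟩
      rw [Finsupp.smul_apply, smul_eq_mul]
      exact mul_nonneg (Int.natCast_nonneg _) (coef_nonneg_of_mem_posOf hΔ₁ hiS γ')
    have h2 := (Finset.sum_eq_zero_iff_of_nonneg hnn).mp h1.symm δ
      (Finsupp.mem_support_iff.mpr hδ)
    rw [Finsupp.smul_apply, smul_eq_mul] at h2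
    rcases mul_eq_zero.mp h2 with h | h
    · exact absurd (by exact_mod_cast h) hδ
    · exact h
  have hprop := root_eq_smul_of_coef_eq_zero hΔ₁ hγ hzero
  have hcpos : 0 ≤ coef hΔ₁ δ ⟨γ, hγ⟩ := coef_nonneg_of_mem_posOf hΔ₁ hδS _
  rcases smul_root_cases P hprop with h | h | h | h
  · rw [h, one_smul] at hprop
    exact P.root.injective hprop ▸ hδΔ
  · omega
  · rw [h] at hprop
    exact absurd hprop.symm (hind δ hδΔ γ)
  · omega

end

/-- If the roots indexed by `Δ` are indivisible and linearly independent and every root is, up to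
sign, a non-negative rational combination of them, then `Δ` is a system of simple roots. -/
theorem isSimpleSys_of_cone (P : RootPairing ι ℤ M N) [Finite ι] (Δ : Set ι)
    (hind : ∀ i ∈ Δ, IsIndiv P i) (hli : LinearIndepOn ℤ P.root Δ)
    (hcone : ∀ k : ι, ∃ n : ℕ, 0 < n ∧
      (n • P.root k ∈ natSpan P Δ ∨ n • (-P.root k) ∈ natSpan P Δ)) :
    IsSimpleSys P Δ := by
  obtain ⟨Δ₁, hΔ₁, hS⟩ := exists_isSimpleSys_eq_posOf P (isPosSys_coneOf hli hcone)
  have hsub := subset_of_posOf_eq_coneOf hΔ₁ hind hS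
  refine ⟨hli, fun k => ?_⟩
  rcases hΔ₁.mem_or_neg_mem k with h | h
  · exact Or.inl (natSpan_mono P hsub h)
  · exact Or.inr (natSpan_mono P hsub h)

end Groth.Agent.Lib.Helper2.RootD
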