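import Groth.Agent.Lib.Helper2.RootD.Words

/-!
# Root data: the height of the images of a dominant root under a standard parabolic subgroup
-/

set_option autoImplicit false

open Set Function

namespace Groth.Agent.Lib.Helper2.RootD

open _root_.RootD

variable {ι M N : Type*} [AddCommGroup M] [AddCommGroup N]

section

variable {P : RootPairing ι ℤ M N} {Δ : Set ι} (hΔ : IsSimpleSys P Δ)

/-- The height as a linear form on the span of `Δ`. -/
noncomputable def htLin : spanOf P Δ →ₗ[ℤ] ℤ :=
  (htL Δ).comp (basisOf hΔ.linInd).repr.toLinearMap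

lemma htLin_rootL (k : ι) : htLin hΔ (rootL hΔ k) = ht hΔ k := rfl

lemma ht_rprod_snoc (l₀ : List ι) (a k : ι) :
    ht hΔ (rprod P (l₀ ++ [a]) • k) =
      ht hΔ (rprod P l₀ • k) - P.pairing k a * ht hΔ (rprod P l₀ • a) := by
  have h1 : rootL hΔ (rprod P (l₀ ++ [a]) • k) =
      rootL hΔ (rprod P l₀ • k) - P.pairing k a • rootL hΔ (rprod P l₀ • a) := by
    apply Subtype.ext
    show P.root (rprod P (l₀ ++ [a]) • k) =
      P.root (rprod P l₀ • k) - P.pairing k a • P.root (rprod P l₀ • a)
    rw [rprod_snoc, mul_smul, reflection_aut_smul, root_smul, root_reflectionPerm', smul_sub,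
      smul_comm, ← root_smul, ← root_smul]
  rw [← htLin_rootL, h1, map_sub, map_smul, htLin_rootL, htLin_rootL, smul_eq_mul]

lemma ht_rprod_le [Finite ι] {Δ' : Set ι} (hsub : Δ' ⊆ Δ) {k : ι}
    (hdom : ∀ a ∈ Δ', 0 ≤ P.pairing k a) :
    ∀ (n : ℕ) (l : List ι), l.length = n → IsMinWord P Δ' l →
      ht hΔ (rprod P l • k) ≤ ht hΔ k ∧
        ((∃ a ∈ l, 0 < P.pairing k a) → ht hΔ (rprod P l • k) < ht hΔ k) := by
  intro n
  induction n with
  | zero =>
    intro l hlen _
    rw [List.length_eq_zero_iff.mp hlen, rprod_nil, one_smul]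
    refine ⟨le_rfl, ?_⟩
    rintro ⟨a, ha, -⟩
    simp at ha
  | succ n ih =>
    intro l hlen hmin
    have hne : l ≠ [] := by
      intro h; rw [h] at hlen; simp at hlen
    obtain ⟨l₀, a, rfl⟩ : ∃ l₀ a, l = l₀ ++ [a] :=
      ⟨l.dropLast, l.getLast hne, (List.dropLast_append_getLast hne).symm⟩
    have hlen' : l₀.length = n := by
      simp only [List.length_append, List.length_cons, List.length_nil] at hlen
      omega
    obtain ⟨ih1, ih2⟩ := ih l₀ hlen' hmin.prefix
    have hpos := IsMinWord.pos hΔ hsub hmin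
    have hht := ht_pos_of_mem_posOf hΔ hpos
    have hp := hdom a hmin.mem_last
    rw [ht_rprod_snoc]
    have hprod : 0 ≤ P.pairing k a * ht hΔ (rprod P l₀ • a) := mul_nonneg hp hht.le
    refine ⟨by linarith, ?_⟩
    rintro ⟨b, hb, hbpos⟩
    rcases List.mem_append.mp hb with hb' | hb'
    · have := ih2 ⟨b, hb', hbpos⟩
      linarith
    · have hba : b = a := by simpa using hb'
      rw [hba] at hbpos
      have : 0 < P.pairing k a * ht hΔ (rprod P l₀ • a) := mul_pos hbpos hht
      linarith

/-- The sum of the coefficients of a combination of `Δ` representing `root k - root k'`. -/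
lemma sum_coeff_eq_ht_sub (k k' : ι) (c : ι →₀ ℤ) (hc : ↑c.support ⊆ Δ)
    (hck : Finsupp.linearCombination ℤ P.root c = P.root k - P.root k') :
    c.sum (fun _ a => a) = ht hΔ k - ht hΔ k' := by
  classical
  set c' : Δ →₀ ℤ := c.subtypeDomain (· ∈ Δ) with hc'
  have hx : rootL hΔ k - rootL hΔ k' =
      Finsupp.linearCombination ℤ (basisOf hΔ.linInd) c' := by
    apply Subtype.ext
    rw [Finsupp.linearCombination_apply, Finsupp.sum, Submodule.coe_sum]
    have h1 : ∑ δ ∈ c'.support, ((c' δ • (basisOf hΔ.linInd) δ : spanOf P Δ) : M) =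
        c'.sum fun δ a => a • P.root (δ : ι) := by
      rw [Finsupp.sum]
      refine Finset.sum_congr rfl fun δ _ => ?_
      rw [Submodule.coe_smul, basisOf_apply]
    rw [h1, hc', Finsupp.sum_subtypeDomain_index (h := fun i a => a • P.root i)
      (fun x hx => hc hx), ← Finsupp.linearCombination_apply, hck]
    rfl
  have h2 := congrArg (fun y => htL Δ ((basisOf hΔ.linInd).repr y)) hx
  simp only [Module.Basis.repr_linearCombination, map_sub] at h2
  have h3 : htL Δ c' = c.sum (fun _ a => a) := by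
    rw [htL_apply, hc', Finsupp.sum_subtypeDomain_index (h := fun _ a => a) (fun x hx => hc hx)]
  rw [← h3, ← h2]
  rfl

end

/-- The rank-two height inequality. -/
theorem coeffSum_nonneg_of_rankTwo (P : RootPairing ι ℤ M N) [Finite ι] (Δ : Set ι)
    (hΔ : IsSimpleSys P Δ) (k i j : ι) (_hk : k ∈ posOf P Δ) (hi : i ∈ Δ) (hj : j ∈ Δ)
    (hα : 0 < P.pairing k i) (hβ : 0 ≤ P.pairing k j)
    (g : P.Aut) (hg : g ∈ Subgroup.closure
      {RootPairing.Equiv.reflection P i, RootPairing.Equiv.reflection P j})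
    (c : ι →₀ ℤ) (hc : ↑c.support ⊆ Δ)
    (hck : Finsupp.linearCombination ℤ P.root c = P.root k - P.root (g • k)) :
    0 ≤ c.sum (fun _ a => a) ∧
      (g ≠ 1 → g ≠ RootPairing.Equiv.reflection P j → 0 < c.sum (fun _ a => a)) := by
  have hg' : g ∈ Subgroup.closure
      ((fun i : ι => RootPairing.Equiv.reflection P i) '' ({i, j} : Set ι)) := by
    rw [Set.image_pair]; exact hg
  have hsub : ({i, j} : Set ι) ⊆ Δ := by
    rintro x (rfl | rfl)
    · exact hi
    · exact hj
  have hdom : ∀ a ∈ ({i, j} : Set ι), 0 ≤ P.pairing k a := by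
    rintro x (rfl | rfl)
    · exact hα.le
    · exact hβ
  obtain ⟨l, hmin, rfl⟩ := exists_minWord P hg'
  obtain ⟨h1, h2⟩ := ht_rprod_le hΔ hsub hdom l.length l rfl hmin
  rw [sum_coeff_eq_ht_sub hΔ k _ c hc hck]
  refine ⟨by linarith, fun hne1 hnej => ?_⟩
  suffices hil : i ∈ l by
    have := h2 ⟨i, hil, hα⟩
    linarith
  by_contra hil
  have hall : ∀ a ∈ l, a = j := by
    intro a ha
    rcases hmin.1 a ha with h | h
    · exact absurd (h ▸ ha) hil
    · exact h
  match l, hmin, hne1, hnej, hall with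
  | [], _, hne1, _, _ => exact hne1 (rprod_nil P)
  | [b], _, _, hnej, hall =>
    have hb : b = j := hall b (by simp)
    apply hnej
    rw [hb, rprod_cons, rprod_nil, mul_one]
  | b :: b' :: t, hmin, _, _, hall =>
    have hb : b = j := hall b (by simp)
    have hb' : b' = j := hall b' (by simp)
    have := hmin.2 t (fun a ha => hmin.1 a (by simp [ha])) (by
      rw [rprod_cons, rprod_cons, hb, hb', ← mul_assoc, reflection_mul_self, one_mul])
    simp at this

end Groth.Agent.Lib.Helper2.RootD
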