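import Groth.Agent.Lib.Helper2.RootD.Simple

/-!
# Root data: existence of simple systems, the Weyl group acts transitively on positive systems
-/

set_option autoImplicit false

open Set Function

namespace Groth.Agent.Lib.Helper2.RootD

open _root_.RootD

variable {ι M N : Type*} [AddCommGroup M] [AddCommGroup N]

section Regular

variable (P : RootPairing ι ℤ M N)

/-- There is a linear form not vanishing on any root. -/
lemma exists_regular [Finite ι] : ∃ f : Module.Dual ℤ M, ∀ i, f (P.root i) ≠ 0 := by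
  classical
  have key : ∀ s : Finset ι, ∃ f : Module.Dual ℤ M, ∀ i ∈ s, f (P.root i) ≠ 0 := by
    intro s
    induction s using Finset.induction_on with
    | empty => exact ⟨0, by simp⟩
    | insert a s ha ih =>
      obtain ⟨f, hf⟩ := ih
      have ha2 : P.coroot' a (P.root a) = 2 := by
        rw [RootPairing.root_coroot'_eq_pairing, RootPairing.pairing_same]
      refine ⟨f + (1 + ∑ i ∈ insert a s, |f (P.root i)|) • P.coroot' a, ?_⟩
      intro i hi
      have hti : |f (P.root i)| < 1 + ∑ i ∈ insert a s, |f (P.root i)| := by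
        have := Finset.single_le_sum (f := fun i => |f (P.root i)|) (fun j _ => abs_nonneg _) hi
        linarith
      have htpos : 0 < 1 + ∑ i ∈ insert a s, |f (P.root i)| :=
        lt_of_le_of_lt (abs_nonneg _) hti
      rw [LinearMap.add_apply, LinearMap.smul_apply, smul_eq_mul]
      by_cases hz : P.coroot' a (P.root i) = 0
      · rw [hz, mul_zero, add_zero]
        rcases Finset.mem_insert.mp hi with rfl | his
        · rw [ha2] at hz; norm_num at hz
        · exact hf i his
      · intro hcon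
        have h1 : (1 + ∑ i ∈ insert a s, |f (P.root i)|) * P.coroot' a (P.root i) =
            -f (P.root i) := by linarith
        have h2 : |(1 + ∑ i ∈ insert a s, |f (P.root i)|) * P.coroot' a (P.root i)| =
            |f (P.root i)| := by rw [h1, abs_neg]
        rw [abs_mul, abs_of_pos htpos] at h2
        have h3 : 1 ≤ |P.coroot' a (P.root i)| := Int.one_le_abs hz
        nlinarith
  let _ := Fintype.ofFinite ι
  obtain ⟨f, hf⟩ := key Finset.univ
  exact ⟨f, fun i => hf i (Finset.mem_univ i)⟩

lemma isSimpleSys_baseOf [Finite ι] (f : Module.Dual ℤ M) (hf : ∀ i, f (P.root i) ≠ 0) :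
    IsSimpleSys P (IsAddIndecomposable.baseOf P.root (f : M →+ ℤ)) where
  linInd := P.linearIndepOn_root_baseOf' f hf
  mem_or_neg_mem := fun i => by
    letI := P.indexNeg
    exact IsAddIndecomposable.mem_or_neg_mem_closure_baseOf P.root (f : M →+ ℤ) i (hf i) (by simp)

lemma exists_isSimpleSys [Finite ι] : ∃ Δ : Set ι, IsSimpleSys P Δ := by
  obtain ⟨f, hf⟩ := exists_regular P
  exact ⟨_, isSimpleSys_baseOf P f hf⟩

end Regular

section Aut

variable (P : RootPairing ι ℤ M N)

lemma root_smul (g : P.Aut) (i : ι) : P.root (g • i) = g • P.root i :=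
  RootPairing.Equiv.root_indexEquiv_eq_smul (P := P) i g

lemma reflection_aut_smul (i k : ι) :
    (RootPairing.Equiv.reflection P i) • k = P.reflectionPerm i k := rfl

lemma smul_neg_index (g : P.Aut) (i : ι) :
    g • (P.reflectionPerm i i) = P.reflectionPerm (g • i) (g • i) := by
  apply P.root.injective
  rw [root_smul, root_neg, root_neg, root_smul, smul_neg]

lemma smul_mem_natSpan (g : P.Aut) {Δ : Set ι} {x : M} (hx : x ∈ natSpan P Δ) :
    g • x ∈ natSpan P ((fun i => g • i) '' Δ) := by
  induction hx using AddSubmonoid.closure_induction with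
  | mem y hy =>
    obtain ⟨i, hi, rfl⟩ := hy
    rw [← root_smul]
    exact root_mem_natSpan P ⟨i, hi, rfl⟩
  | zero => rw [smul_zero]; exact zero_mem _
  | add y z _ _ hy hz => rw [smul_add]; exact add_mem hy hz

lemma image_image_inv (g : P.Aut) (Δ : Set ι) :
    (fun i => g⁻¹ • i) '' ((fun i => g • i) '' Δ) = Δ := by
  rw [Set.image_image]
  simp

lemma image_image_mul (g h : P.Aut) (Δ : Set ι) :
    (fun i => g • i) '' ((fun i => h • i) '' Δ) = (fun i => (g * h) • i) '' Δ := by
  rw [Set.image_image]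
  simp only [mul_smul]

lemma linearIndepOn_smul (g : P.Aut) {Δ : Set ι} (h : LinearIndepOn ℤ P.root Δ) :
    LinearIndepOn ℤ P.root ((fun i => g • i) '' Δ) := by
  apply LinearIndepOn.image_of_comp
  have : P.root ∘ (fun i => g • i) =
      (RootPairing.Equiv.weightHom P g).toLinearMap ∘ P.root := by
    funext i; exact root_smul P g i
  rw [this]
  exact h.map_injOn _ ((RootPairing.Equiv.weightHom P g).injective.injOn)

lemma isSimpleSys_smul (g : P.Aut) {Δ : Set ι} (hΔ : IsSimpleSys P Δ) :
    IsSimpleSys P ((fun i => g • i) '' Δ) where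
  linInd := linearIndepOn_smul P g hΔ.linInd
  mem_or_neg_mem := fun k => by
    have hk : P.root k = g • P.root (g⁻¹ • k) := by rw [← root_smul, smul_inv_smul]
    rcases hΔ.mem_or_neg_mem (g⁻¹ • k) with h | h
    · left; rw [hk]; exact smul_mem_natSpan P g h
    · right; rw [hk, ← smul_neg]; exact smul_mem_natSpan P g h

lemma smul_mem_posOf_iff (g : P.Aut) {Δ : Set ι} (k : ι) :
    g • k ∈ posOf P ((fun i => g • i) '' Δ) ↔ k ∈ posOf P Δ := by
  constructor
  · intro h
    have h1 : g⁻¹ • P.root (g • k) ∈ natSpan P ((fun i => g⁻¹ • i) '' ((fun i => g • i) '' Δ)) :=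
      smul_mem_natSpan P g⁻¹ h
    rw [← root_smul, inv_smul_smul, image_image_inv] at h1
    exact h1
  · intro h
    show P.root (g • k) ∈ natSpan P ((fun i => g • i) '' Δ)
    rw [root_smul]; exact smul_mem_natSpan P g h

lemma image_posOf (g : P.Aut) (Δ : Set ι) :
    (fun i => g • i) '' posOf P Δ = posOf P ((fun i => g • i) '' Δ) := by
  ext k
  constructor
  · rintro ⟨j, hj, rfl⟩
    exact (smul_mem_posOf_iff P g j).mpr hj
  · intro hk
    refine ⟨g⁻¹ • k, ?_, smul_inv_smul g k⟩
    rw [← smul_mem_posOf_iff P g, smul_inv_smul]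
    exact hk

end Aut

section Descent

variable (P : RootPairing ι ℤ M N) [Finite ι]

lemma descent {Δ : Set ι} (hΔ : IsSimpleSys P Δ) {P' : Set ι}
    (hP2 : ∀ i, i ∈ P' ∨ P.reflectionPerm i i ∈ P') (hcl : IsClosedSub P P') {α : ι}
    (hα : α ∈ Δ) (hαP : α ∉ P') :
    posOf P ((fun i => (RootPairing.Equiv.reflection P α) • i) '' Δ) \ P' ⊂ posOf P Δ \ P' := by
  have hnegα : P.reflectionPerm α α ∈ P' := (hP2 α).resolve_left hαP
  rw [Set.ssubset_iff_of_subset]
  · refine ⟨α, ⟨mem_posOf_of_mem hα, hαP⟩, ?_⟩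
    rintro ⟨h, -⟩
    have h1 : (RootPairing.Equiv.reflection P α) • (P.reflectionPerm α α) = α := by
      rw [reflection_aut_smul, RootPairing.reflectionPerm_self]
    have h2 : (RootPairing.Equiv.reflection P α) • (P.reflectionPerm α α) ∈
        posOf P ((fun i => (RootPairing.Equiv.reflection P α) • i) '' Δ) := h1.symm ▸ h
    exact not_mem_posOf_neg hΔ (mem_posOf_of_mem hα) ((smul_mem_posOf_iff P _ _).mp h2)
  · rintro k ⟨hk, hkP⟩
    refine ⟨?_, hkP⟩
    have hk' : P.reflectionPerm α k ∈ posOf P Δ := by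
      have h1 : (RootPairing.Equiv.reflection P α) • (P.reflectionPerm α k) = k := by
        rw [reflection_aut_smul, RootPairing.reflectionPerm_self]
      have h2 : (RootPairing.Equiv.reflection P α) • (P.reflectionPerm α k) ∈
          posOf P ((fun i => (RootPairing.Equiv.reflection P α) • i) '' Δ) := h1.symm ▸ hk
      exact (smul_mem_posOf_iff P _ _).mp h2
    by_cases hli : LinearIndependent ℤ ![P.root (P.reflectionPerm α k), P.root α]
    · have := reflectionPerm_mem_posOf hΔ hk' hα hli
      rwa [RootPairing.reflectionPerm_self] at this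
    · exfalso
      have hneg := reflectionPerm_eq_neg_of_not_linearIndependent P hli
      rw [RootPairing.reflectionPerm_self] at hneg
      rcases eq_or_eq_two_smul_of_not_linearIndependent hΔ hk' hα hli with h1 | h1
      · rw [h1] at hneg
        exact hkP (hneg ▸ hnegα)
      · apply hkP
        apply hcl hnegα hnegα
        rw [hneg, root_neg, h1, root_neg, two_smul]
        abel

/-- A closed set of roots containing each root or its opposite contains the positive roots of
some Weyl-translate of any given simple system. -/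
theorem exists_weyl_posOf_subset {Δ₀ : Set ι} (hΔ₀ : IsSimpleSys P Δ₀) {P' : Set ι}
    (hP2 : ∀ i, i ∈ P' ∨ P.reflectionPerm i i ∈ P') (hcl : IsClosedSub P P') :
    ∃ g : P.Aut, g ∈ P.weylGroup ∧ posOf P ((fun i => g • i) '' Δ₀) ⊆ P' := by
  have key : ∀ n : ℕ, ∀ g : P.Aut, g ∈ P.weylGroup →
      (posOf P ((fun i => g • i) '' Δ₀) \ P').ncard = n →
      ∃ g' : P.Aut, g' ∈ P.weylGroup ∧ posOf P ((fun i => g' • i) '' Δ₀) ⊆ P' := by
    intro n
    induction n using Nat.strong_induction_on with
    | _ n ih =>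
      intro g hg hn
      by_cases hsub : posOf P ((fun i => g • i) '' Δ₀) ⊆ P'
      · exact ⟨g, hg, hsub⟩
      · have hΔ := isSimpleSys_smul P g hΔ₀
        have hns : ¬ ((fun i => g • i) '' Δ₀ ⊆ P') := fun h =>
          hsub (posOf_subset_of_isClosedSub hΔ hcl h)
        obtain ⟨α, hα, hαP⟩ := Set.not_subset.mp hns
        have hlt := descent P hΔ hP2 hcl hα hαP
        have hcard := Set.ncard_lt_ncard hlt (Set.toFinite _)
        rw [image_image_mul] at hcard
        exact ih _ (hn ▸ hcard) (RootPairing.Equiv.reflection P α * g)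
          (mul_mem (P.reflection_mem_weylGroup α) hg) rfl
  exact key _ 1 (one_mem _) rfl

omit [Finite ι] in
lemma isClosedSub_of_isPosSys {S : Set ι} (hS : IsPosSys P S) : IsClosedSub P S := by
  intro i j k hi hj hk
  apply hS.sat 1 one_pos
  rw [one_smul, hk]
  exact add_mem (root_mem_natSpan P hi) (root_mem_natSpan P hj)

/-- A closed set of roots satisfying (P1) and (P2) is the set of positive roots of a Weyl-translate
of any given simple system. -/
theorem exists_weyl_eq_posOf {Δ₀ : Set ι} (hΔ₀ : IsSimpleSys P Δ₀) {S : Set ι}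
    (h1 : ∀ i ∈ S, P.reflectionPerm i i ∉ S) (h2 : ∀ i, i ∈ S ∨ P.reflectionPerm i i ∈ S)
    (hcl : IsClosedSub P S) :
    ∃ g : P.Aut, g ∈ P.weylGroup ∧ S = posOf P ((fun i => g • i) '' Δ₀) := by
  obtain ⟨g, hg, hsub⟩ := exists_weyl_posOf_subset P hΔ₀ h2 hcl
  refine ⟨g, hg, Set.Subset.antisymm ?_ hsub⟩
  intro k hk
  rcases mem_posOf_or_neg (isSimpleSys_smul P g hΔ₀) k with h | h
  · exact h
  · exact absurd (hsub h) (h1 k hk)

/-- Two simple systems with the same positive roots are equal. -/
lemma eq_of_posOf_eq {Δ₁ Δ₂ : Set ι} (h₁ : IsSimpleSys P Δ₁) (h₂ : IsSimpleSys P Δ₂)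
    (h : posOf P Δ₁ = posOf P Δ₂) : Δ₁ = Δ₂ := by
  ext k
  constructor
  · intro hk
    have hk1 : k ∈ posOf P Δ₁ := mem_posOf_of_mem hk
    have hk2 : k ∈ posOf P Δ₂ := h ▸ hk1
    rw [mem_iff_not_sum h₂ hk2, ← h]
    exact (mem_iff_not_sum h₁ hk1).mp hk
  · intro hk
    have hk2 : k ∈ posOf P Δ₂ := mem_posOf_of_mem hk
    have hk1 : k ∈ posOf P Δ₁ := h ▸ hk2
    rw [mem_iff_not_sum h₁ hk1, h]
    exact (mem_iff_not_sum h₂ hk2).mp hk

/-- Every positive system is the set of positive roots of a simple system. -/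
theorem exists_isSimpleSys_eq_posOf {S : Set ι} (hS : IsPosSys P S) :
    ∃ Δ : Set ι, IsSimpleSys P Δ ∧ S = posOf P Δ := by
  obtain ⟨Δ₀, hΔ₀⟩ := exists_isSimpleSys P
  obtain ⟨g, -, hg⟩ := exists_weyl_eq_posOf P hΔ₀ (fun i hi => hS.disjoint hi) hS.cover
    (isClosedSub_of_isPosSys P hS)
  exact ⟨_, isSimpleSys_smul P g hΔ₀, hg⟩

end Descent

end Groth.Agent.Lib.Helper2.RootD
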