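import Groth.Agent.Lib.Helper2.RootD.Basic

/-!
# Root data: simple systems, positive roots, simple reflections
-/

set_option autoImplicit false

open Set Function

namespace Groth.Agent.Lib.Helper2.RootD

open _root_.RootD

variable {ι M N : Type*} [AddCommGroup M] [AddCommGroup N]

section General

variable (P : RootPairing ι ℤ M N)

lemma pairingIn_int (i j : ι) : P.pairingIn ℤ i j = P.pairing i j := by
  have := P.algebraMap_pairingIn ℤ i j
  simpa using this

include P in
lemma isAddTorsionFree' : IsAddTorsionFree N := by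
  have : Module.IsReflexive ℤ N := .of_isPerfPair P.flip.toLinearMap
  exact .of_isTorsionFree ℤ N

/-- Integer multiples of a root which are roots: the factor is ±1 or ±2. -/
lemma smul_root_cases [Finite ι] {k i : ι} {c : ℤ} (h : P.root k = c • P.root i) :
    c = 1 ∨ c = -1 ∨ c = 2 ∨ c = -2 := by
  have := isAddTorsionFree' P
  have h1 : c • P.coroot k = P.coroot i := RootPairing.smul_coroot_eq_of_root_eq_smul i k c h
  have h2 : c * P.pairing i k = 2 := by
    have := congrArg (P.toLinearMap (P.root i)) h1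
    rw [map_smul, smul_eq_mul, RootPairing.root_coroot_eq_pairing,
      RootPairing.root_coroot_eq_pairing, RootPairing.pairing_same] at this
    exact this
  have hdvd : c ∣ 2 := ⟨_, h2.symm⟩
  have hle := Int.le_of_dvd (by norm_num) hdvd
  have hge : -2 ≤ c := by
    have h3 : -c ∣ 2 := (neg_dvd).mpr hdvd
    have := Int.le_of_dvd (by norm_num) h3
    omega
  have hne : c ≠ 0 := by rintro rfl; simp at h2
  omega

/-- If `root k` and `root i` are linearly dependent then the reflection in `i` negates `root k`. -/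
lemma reflectionPerm_eq_neg_of_not_linearIndependent {k i : ι}
    (h : ¬ LinearIndependent ℤ ![P.root k, P.root i]) :
    P.reflectionPerm i k = P.reflectionPerm k k := by
  have hM := isAddTorsionFree P
  rw [LinearIndependent.pair_iff] at h
  push Not at h
  obtain ⟨a, b, hab, hne⟩ := h
  have ha : a ≠ 0 := by
    intro ha
    have hb := hne ha
    rw [ha, zero_smul, zero_add] at hab
    exact P.ne_zero i ((zsmul_right_injective hb) (by simpa using hab))
  apply P.root.injective
  rw [root_neg, root_reflectionPerm']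
  have h1 : a • P.root k = -(b • P.root i) := eq_neg_of_add_eq_zero_left hab
  have h2 : a * P.pairing k i = -(b * 2) := by
    have := congrArg (fun x => P.toLinearMap x (P.coroot i)) h1
    simp only [map_smul, map_neg, LinearMap.smul_apply, LinearMap.neg_apply, smul_eq_mul,
      RootPairing.root_coroot_eq_pairing, RootPairing.pairing_same] at this
    exact this
  apply zsmul_right_injective ha
  show a • (P.root k - P.pairing k i • P.root i) = a • (-P.root k)
  rw [smul_sub, smul_neg, smul_smul, h2, h1]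
  module

end General

section Simple

variable {P : RootPairing ι ℤ M N} {Δ : Set ι}

lemma coe_eq_sum_repr (hli : LinearIndepOn ℤ P.root Δ) (x : spanOf P Δ) :
    (x : M) = ((basisOf hli).repr x).sum fun δ a => a • P.root (δ : ι) := by
  have hx := (basisOf hli).linearCombination_repr x
  conv_lhs => rw [← hx]
  rw [Finsupp.linearCombination_apply, Finsupp.sum, Finsupp.sum, Submodule.coe_sum]
  refine Finset.sum_congr rfl fun δ _ => ?_
  rw [Submodule.coe_smul, basisOf_apply]

lemma natSpan_posOf_le : natSpan P (posOf P Δ) ≤ natSpan P Δ :=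
  natSpan_le_of_forall P fun _ hi => hi

lemma posOf_subset_of_subset {S : Set ι} (hS : IsPosSys P S) (h : Δ ⊆ S) : posOf P Δ ⊆ S := by
  intro k hk
  apply hS.sat 1 one_pos
  rw [one_smul]
  exact natSpan_mono P h hk

variable (hΔ : IsSimpleSys P Δ)

include hΔ

lemma root_eq_sum (k : ι) : P.root k = (coef hΔ k).sum fun δ a => a • P.root (δ : ι) :=
  coe_eq_sum_repr hΔ.linInd (rootL hΔ k)

/-- The elements of a simple system are indivisible. -/
lemma isIndiv_of_mem {i : ι} (hi : i ∈ Δ) : IsIndiv P i := by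
  intro j hj
  have h1 := coef_smul hΔ (k := i) (i := j) (n := 2) hj.symm
  have h2 : coef hΔ i = Finsupp.single ⟨i, hi⟩ 1 := coef_of_mem hΔ ⟨i, hi⟩
  have h3 := congrArg (fun c => c ⟨i, hi⟩) (h2.symm.trans h1)
  simp only [Finsupp.single_eq_same, Finsupp.smul_apply, smul_eq_mul] at h3
  omega

lemma isPosSys_posOf : IsPosSys P (posOf P Δ) where
  disjoint := fun _ hi => not_mem_posOf_neg hΔ hi
  cover := mem_posOf_or_neg hΔ
  sat := by
    intro k n hn hmem
    have h1 : n • P.root k ∈ natSpan P Δ := natSpan_posOf_le hmem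
    rw [mem_posOf_iff hΔ]
    intro δ
    have hmem' : n • P.root k ∈ spanOf P Δ := nsmul_mem (root_mem_spanOf hΔ k) n
    have h2 := repr_nonneg_of_mem_natSpan hΔ.linInd δ _ h1 hmem'
    have h3 : (⟨n • P.root k, hmem'⟩ : spanOf P Δ) = n • rootL hΔ k := rfl
    rw [h3, map_nsmul, Finsupp.smul_apply, nsmul_eq_mul] at h2
    have hn' : (0 : ℤ) < n := by exact_mod_cast hn
    exact (mul_nonneg_iff_of_pos_left hn').mp h2

lemma eq_posOf_of_subset {S : Set ι} (hS : IsPosSys P S) (h : Δ ⊆ S) : S = posOf P Δ := by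
  apply Set.Subset.antisymm
  · intro k hk
    rcases mem_posOf_or_neg hΔ k with h1 | h1
    · exact h1
    · exact absurd (posOf_subset_of_subset hS h h1) (hS.disjoint hk)
  · exact posOf_subset_of_subset hS h

/-- If all coefficients of `k` away from `i ∈ Δ` vanish then `root k` is a multiple of `root i`. -/
lemma root_eq_smul_of_coef_eq_zero {k i : ι} (hi : i ∈ Δ)
    (h0 : ∀ δ : Δ, δ ≠ ⟨i, hi⟩ → coef hΔ k δ = 0) :
    P.root k = (coef hΔ k ⟨i, hi⟩) • P.root i := by
  classical
  have hci : coef hΔ i = Finsupp.single ⟨i, hi⟩ 1 := coef_of_mem hΔ ⟨i, hi⟩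
  have h1 : coef hΔ k = (coef hΔ k ⟨i, hi⟩) • coef hΔ i := by
    rw [hci]
    ext δ
    rw [Finsupp.smul_apply, Finsupp.single_apply, smul_eq_mul]
    split_ifs with h
    · subst h; ring
    · rw [h0 δ (fun e => h e.symm)]; ring
  have h2 : rootL hΔ k = (coef hΔ k ⟨i, hi⟩) • rootL hΔ i := by
    apply (basisOf hΔ.linInd).repr.injective
    rw [map_smul]; exact h1
  exact congrArg Subtype.val h2

lemma exists_coef_pos_ne {k i : ι} (hk : k ∈ posOf P Δ) (hi : i ∈ Δ)
    (hli : LinearIndependent ℤ ![P.root k, P.root i]) :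
    ∃ δ : Δ, δ ≠ ⟨i, hi⟩ ∧ 0 < coef hΔ k δ := by
  by_contra hcon
  push Not at hcon
  have h0 : ∀ δ : Δ, δ ≠ ⟨i, hi⟩ → coef hΔ k δ = 0 := fun δ hδ =>
    le_antisymm (hcon δ hδ) (coef_nonneg_of_mem_posOf hΔ hk δ)
  have h3 := root_eq_smul_of_coef_eq_zero hΔ hi h0
  rw [LinearIndependent.pair_iff] at hli
  have := hli 1 (-(coef hΔ k ⟨i, hi⟩)) (by rw [one_smul, h3, neg_smul, add_neg_cancel])
  exact one_ne_zero this.1

/-- The reflection in a simple root maps every positive root not proportional to it to a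
positive root. -/
lemma reflectionPerm_mem_posOf {k i : ι} (hk : k ∈ posOf P Δ) (hi : i ∈ Δ)
    (hli : LinearIndependent ℤ ![P.root k, P.root i]) :
    P.reflectionPerm i k ∈ posOf P Δ := by
  classical
  obtain ⟨δ, hδ, hpos⟩ := exists_coef_pos_ne hΔ hk hi hli
  apply mem_posOf_of_coef_pos hΔ (δ := δ)
  have hci : coef hΔ i = Finsupp.single ⟨i, hi⟩ 1 := coef_of_mem hΔ ⟨i, hi⟩
  rw [coef_reflectionPerm, hci, Finsupp.sub_apply, Finsupp.smul_apply, Finsupp.single_apply,
    if_neg (Ne.symm hδ), smul_zero, sub_zero]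
  exact hpos

/-- A positive root linearly dependent on a simple root `i` is `i` or `2 i`. -/
lemma eq_or_eq_two_smul_of_not_linearIndependent [Finite ι] {k i : ι} (hk : k ∈ posOf P Δ)
    (hi : i ∈ Δ) (h : ¬ LinearIndependent ℤ ![P.root k, P.root i]) :
    k = i ∨ P.root k = (2 : ℤ) • P.root i := by
  classical
  have hM := isAddTorsionFree P
  have hci : coef hΔ i = Finsupp.single ⟨i, hi⟩ 1 := coef_of_mem hΔ ⟨i, hi⟩
  rw [LinearIndependent.pair_iff] at h
  push Not at h
  obtain ⟨a, b, hab, hne⟩ := h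
  have ha : a ≠ 0 := by
    intro ha
    have hb := hne ha
    rw [ha, zero_smul, zero_add] at hab
    exact P.ne_zero i ((zsmul_right_injective hb) (by simpa using hab))
  have habL : a • rootL hΔ k + b • rootL hΔ i = 0 := Subtype.ext hab
  have habc : a • coef hΔ k + b • coef hΔ i = 0 := by
    have := congrArg (basisOf hΔ.linInd).repr habL
    rwa [map_add, map_smul, map_smul, map_zero] at this
  have h0 : ∀ δ : Δ, δ ≠ ⟨i, hi⟩ → coef hΔ k δ = 0 := by
    intro δ hδ
    have := congrArg (fun c => c δ) habc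
    simp only [hci, Finsupp.add_apply, Finsupp.smul_apply, Finsupp.single_apply,
      if_neg (Ne.symm hδ), smul_eq_mul, mul_zero, add_zero, Finsupp.zero_apply] at this
    exact (mul_eq_zero.mp this).resolve_left ha
  have h3 := root_eq_smul_of_coef_eq_zero hΔ hi h0
  have hc := coef_nonneg_of_mem_posOf hΔ hk ⟨i, hi⟩
  rcases smul_root_cases P h3 with h4 | h4 | h4 | h4
  · left
    apply P.root.injective
    rw [h3, h4, one_smul]
  · omega
  · right
    rw [h3, h4]
  · omega

/-- For a positive root `k` there is a simple root `δ` occurring in `k` with `⟨k, δ^∨⟩ > 0`. -/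
lemma exists_simple_pairing_pos [Finite ι] {k : ι} (hk : k ∈ posOf P Δ) :
    ∃ δ : Δ, 0 < coef hΔ k δ ∧ 0 < P.pairing k δ := by
  classical
  let _ := Fintype.ofFinite ι
  have hpos : 0 < P.RootForm (P.root k) (P.root k) :=
    P.rootForm_pos_of_ne_zero (Submodule.subset_span (Set.mem_range_self k)) (P.ne_zero k)
  have hsum : P.RootForm (P.root k) (P.root k) =
      ∑ δ ∈ (coef hΔ k).support, coef hΔ k δ * P.RootForm (P.root δ) (P.root k) := by
    have h1 : P.RootForm (P.root k) (P.root k) =
        P.RootForm ((coef hΔ k).sum fun δ a => a • P.root (δ : ι)) (P.root k) := by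
      rw [← root_eq_sum hΔ k]
    rw [h1, Finsupp.sum, map_sum, LinearMap.sum_apply]
    refine Finset.sum_congr rfl fun δ _ => ?_
    rw [map_smul, LinearMap.smul_apply, smul_eq_mul]
  obtain ⟨δ, hδ, hδpos⟩ : ∃ δ ∈ (coef hΔ k).support,
      0 < coef hΔ k δ * P.RootForm (P.root δ) (P.root k) := by
    by_contra hcon
    push Not at hcon
    have := Finset.sum_nonpos hcon
    rw [← hsum] at this
    exact absurd hpos (not_lt.mpr this)
  have hc : 0 ≤ coef hΔ k δ := coef_nonneg_of_mem_posOf hΔ hk δ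
  have hc' : 0 < coef hΔ k δ := lt_of_le_of_ne hc (Ne.symm (Finsupp.mem_support_iff.mp hδ))
  have hB : 0 < P.RootForm (P.root δ) (P.root k) := (mul_pos_iff_of_pos_left hc').mp hδpos
  refine ⟨δ, hc', ?_⟩
  have h2 := (P.posRootForm ℤ).two_mul_apply_root_root k δ
  change 2 * P.RootForm (P.root k) (P.root δ) =
    P.pairing k δ * P.RootForm (P.root δ) (P.root δ) at h2
  have hδδ : 0 < P.RootForm (P.root δ) (P.root δ) :=
    P.rootForm_pos_of_ne_zero (Submodule.subset_span (Set.mem_range_self _)) (P.ne_zero δ)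
  have hsymm : P.RootForm (P.root k) (P.root δ) = P.RootForm (P.root δ) (P.root k) := by
    have := P.rootForm_symmetric.eq (P.root k) (P.root δ)
    simpa using this
  rw [hsymm] at h2
  by_contra hcon
  push Not at hcon
  have : P.pairing k δ * P.RootForm (P.root δ) (P.root δ) ≤ 0 :=
    mul_nonpos_of_nonpos_of_nonneg hcon hδδ.le
  linarith

/-- A positive non-simple root is the sum of a positive root and a simple root. -/
lemma exists_decomp [Finite ι] {k : ι} (hk : k ∈ posOf P Δ) (hkΔ : k ∉ Δ) :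
    ∃ j ∈ posOf P Δ, ∃ δ ∈ Δ, P.root k = P.root j + P.root δ := by
  classical
  obtain ⟨δ, hc, hp⟩ := exists_simple_pairing_pos hΔ hk
  have hne : k ≠ δ := fun h => hkΔ (h ▸ δ.2)
  have hp' : 0 < P.pairingIn ℤ k δ := by rw [pairingIn_int]; exact hp
  obtain ⟨j, hj⟩ := P.root_sub_root_mem_of_pairingIn_pos hp' hne
  refine ⟨j, ?_, δ, δ.2, by rw [hj]; abel⟩
  rw [mem_posOf_iff hΔ]
  intro ε
  rw [coef_sub hΔ hj, coef_of_mem, Finsupp.sub_apply, Finsupp.single_apply]
  split_ifs with h
  · subst h; omega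
  · have := coef_nonneg_of_mem_posOf hΔ hk ε; omega

/-- A positive root is simple iff it is not the sum of two positive roots. -/
lemma mem_iff_not_sum [Finite ι] {k : ι} (hk : k ∈ posOf P Δ) :
    k ∈ Δ ↔ ¬ ∃ i j : ι, i ∈ posOf P Δ ∧ j ∈ posOf P Δ ∧ P.root k = P.root i + P.root j := by
  constructor
  · rintro hkΔ ⟨i, j, hi, hj, hsum⟩
    have h1 := ht_add hΔ hsum
    have h2 : ht hΔ k = 1 := ht_of_mem hΔ ⟨k, hkΔ⟩
    have h3 := ht_pos_of_mem_posOf hΔ hi
    have h4 := ht_pos_of_mem_posOf hΔ hj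
    omega
  · intro h
    by_contra hkΔ
    obtain ⟨j, hj, δ, hδ, hsum⟩ := exists_decomp hΔ hk hkΔ
    exact h ⟨j, δ, hj, mem_posOf_of_mem hδ, hsum⟩

/-- A closed set of roots containing a simple system contains its positive roots. -/
lemma posOf_subset_of_isClosedSub [Finite ι] {P' : Set ι} (hcl : IsClosedSub P P')
    (hΔP : Δ ⊆ P') : posOf P Δ ⊆ P' := by
  have key : ∀ n : ℕ, ∀ k ∈ posOf P Δ, ht hΔ k ≤ n → k ∈ P' := by
    intro n
    induction n with
    | zero =>
      intro k hk h
      have := ht_pos_of_mem_posOf hΔ hk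
      omega
    | succ n ih =>
      intro k hk h
      by_cases hkΔ : k ∈ Δ
      · exact hΔP hkΔ
      · obtain ⟨j, hj, δ, hδ, hsum⟩ := exists_decomp hΔ hk hkΔ
        have h1 := ht_add hΔ hsum
        have h2 : ht hΔ δ = 1 := ht_of_mem hΔ ⟨δ, hδ⟩
        have hj' : j ∈ P' := ih j hj (by push_cast at h ⊢; omega)
        exact hcl hj' (hΔP hδ) hsum
  intro k hk
  exact key (ht hΔ k).toNat k hk (Int.self_le_toNat _)

end Simple

end Groth.Agent.Lib.Helper2.RootD
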