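import Groth.Agent.Lib.Helper2.RootD.Words
import Groth.Agent.S5508

/-!
# Root data: dominant homomorphisms form a fundamental domain for the Weyl group
-/

set_option autoImplicit false

open Set Function

namespace Groth.Agent.Lib.Helper2.RootD

open _root_.RootD

variable {ι M N : Type*} [AddCommGroup M] [AddCommGroup N]

section

variable {P : RootPairing ι ℤ M N} {Δ : Set ι} (hΔ : IsSimpleSys P Δ)
  {Γ : Type*} [AddCommGroup Γ] [LinearOrder Γ] [IsOrderedAddMonoid Γ] (f : M →+ Γ)

include hΔ in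
/-- Every additive map to an ordered group has a dominant Weyl conjugate. -/
lemma exists_weyl_dominant [Finite ι] :
    ∃ g : P.Aut, g ∈ P.weylGroup ∧ ∀ i ∈ posOf P Δ, 0 ≤ f (g • P.root i) := by
  have hcl : IsClosedSub P {i : ι | 0 ≤ f (P.root i)} := by
    intro i j k hi hj hk
    show 0 ≤ f (P.root k)
    rw [hk, map_add]
    exact add_nonneg hi hj
  have hP2 : ∀ i, i ∈ {i : ι | 0 ≤ f (P.root i)} ∨
      P.reflectionPerm i i ∈ {i : ι | 0 ≤ f (P.root i)} := by
    intro i
    rcases le_total 0 (f (P.root i)) with h | h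
    · exact Or.inl h
    · right
      show 0 ≤ f (P.root (P.reflectionPerm i i))
      rw [root_neg, map_neg]
      exact neg_nonneg.mpr h
  obtain ⟨g, hg, hsub⟩ := exists_weyl_posOf_subset P hΔ hP2 hcl
  refine ⟨g, hg, fun i hi => ?_⟩
  have := hsub ((smul_mem_posOf_iff P g i).mpr hi)
  rw [← root_smul]
  exact this

include hΔ in
lemma dominant_unique_aux [Finite ι] (hdom : ∀ i ∈ posOf P Δ, 0 ≤ f (P.root i)) :
    ∀ (n : ℕ) (l : List ι), l.length = n → IsMinWord P Δ l →
      (∀ i ∈ posOf P Δ, 0 ≤ f (rprod P l • P.root i)) → ∀ m : M, f (rprod P l • m) = f m := by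
  intro n
  induction n with
  | zero =>
    intro l hlen _ _ m
    rw [List.length_eq_zero_iff.mp hlen, rprod_nil, one_smul]
  | succ n ih =>
    intro l hlen hmin hdom' m
    have hne : l ≠ [] := by
      intro h; rw [h] at hlen; simp at hlen
    obtain ⟨l₀, a, rfl⟩ : ∃ l₀ a, l = l₀ ++ [a] :=
      ⟨l.dropLast, l.getLast hne, (List.dropLast_append_getLast hne).symm⟩
    have hlen' : l₀.length = n := by
      simp only [List.length_append, List.length_cons, List.length_nil] at hlen
      omega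
    have haΔ : a ∈ Δ := hmin.mem_last
    have hpos := IsMinWord.pos hΔ (le_refl Δ) hmin
    have h1 : 0 ≤ f (rprod P l₀ • P.root a) := by
      rw [← root_smul]; exact hdom _ hpos
    have h2 : 0 ≤ f (rprod P (l₀ ++ [a]) • P.root a) := hdom' a (mem_posOf_of_mem haΔ)
    rw [rprod_snoc, mul_smul, RootPairing.Equiv.reflection_smul, P.reflection_apply_self, smul_neg,
      map_neg] at h2
    have h0 : f (rprod P l₀ • P.root a) = 0 := le_antisymm (neg_nonneg.mp h2) h1
    have hstep : ∀ m : M, f (rprod P (l₀ ++ [a]) • m) = f (rprod P l₀ • m) := by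
      intro m
      rw [rprod_snoc, mul_smul, RootPairing.Equiv.reflection_smul, P.reflection_apply, smul_sub,
        smul_comm, map_sub, map_zsmul, h0, smul_zero, sub_zero]
    rw [hstep]
    apply ih l₀ hlen' hmin.prefix
    intro i hi
    rw [← hstep]
    exact hdom' i hi

include hΔ in
/-- If `f` and `f ∘ w` are both dominant then `f ∘ w = f`. -/
lemma dominant_unique [Finite ι] (hdom : ∀ i ∈ posOf P Δ, 0 ≤ f (P.root i)) {g : P.Aut}
    (hg : g ∈ P.weylGroup) (hdom' : ∀ i ∈ posOf P Δ, 0 ≤ f (g • P.root i)) (m : M) :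
    f (g • m) = f m := by
  have hg' : g ∈ Subgroup.closure ((fun i : ι => RootPairing.Equiv.reflection P i) '' Δ) := by
    rw [(Groth.Agent.S5508.result P Δ hΔ).1]; exact hg
  obtain ⟨l, hmin, rfl⟩ := exists_minWord P hg'
  exact dominant_unique_aux hΔ f hdom l.length l rfl hmin hdom' m

end

/-- Dominant maps form a fundamental domain for the Weyl group. -/
theorem dominant_fundamentalDomain (P : RootPairing ι ℤ M N) [Finite ι] (S : Set ι)
    (hS : IsPosSys P S) {Γ : Type*} [AddCommGroup Γ] [LinearOrder Γ] [IsOrderedAddMonoid Γ]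
    (f : M →+ Γ) :
    (∃ g : P.Aut, g ∈ P.weylGroup ∧
      ∀ i ∈ S, 0 ≤ f (RootPairing.Equiv.weightHom P g (P.root i))) ∧
    (∀ g : P.Aut, g ∈ P.weylGroup → (∀ i ∈ S, 0 ≤ f (P.root i)) →
      (∀ i ∈ S, 0 ≤ f (RootPairing.Equiv.weightHom P g (P.root i))) →
      ∀ m : M, f (RootPairing.Equiv.weightHom P g m) = f m) := by
  obtain ⟨Δ, hΔ, rfl⟩ := exists_isSimpleSys_eq_posOf P hS
  refine ⟨exists_weyl_dominant hΔ f, fun g hg hdom hdom' m => ?_⟩
  exact dominant_unique hΔ f hdom hg hdom' m

end Groth.Agent.Lib.Helper2.RootD
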