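import Groth.Agent.Lib.Helper2.RootD.Aut
import Mathlib.LinearAlgebra.RootSystem.Finite.Lemmas
import Mathlib.LinearAlgebra.RootSystem.Reduced

/-!
# Root data: lengths of roots and conjugacy under the Weyl group
-/

set_option autoImplicit false

open Set Function

namespace Groth.Agent.Lib.Helper2.RootD

open _root_.RootD

variable {ι M N : Type*} [AddCommGroup M] [AddCommGroup N]

variable (P : RootPairing ι ℤ M N)

lemma pairing_cases [Finite ι] (i j : ι) :
    (P.pairing i j, P.pairing j i) ∈
      ({(0, 0), (1, 1), (-1, -1), (1, 2), (2, 1), (-1, -2), (-2, -1), (1, 3), (3, 1), (-1, -3),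
        (-3, -1), (4, 1), (1, 4), (-4, -1), (-1, -4), (2, 2), (-2, -2)} : Set (ℤ × ℤ)) := by
  have := P.pairingIn_pairingIn_mem_set_of_isCrystallographic i j
  rwa [pairingIn_int, pairingIn_int] at this

lemma rootForm_root_pos [Fintype ι] (i : ι) : 0 < P.RootForm (P.root i) (P.root i) :=
  P.rootForm_pos_of_ne_zero (Submodule.subset_span ⟨i, rfl⟩) (P.ne_zero i)

lemma pairing_mul_rootForm [Fintype ι] (i j : ι) :
    P.pairing j i * P.RootForm (P.root i) (P.root i) =
      P.pairing i j * P.RootForm (P.root j) (P.root j) :=
  (P.posRootForm ℤ).toInvariantForm.pairing_mul_eq_pairing_mul_swap i j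

lemma rootForm_weyl_smul [Fintype ι] {g : P.Aut} (hg : g ∈ P.weylGroup) (x y : M) :
    P.RootForm (g • x) (g • y) = P.RootForm x y :=
  RootPairing.InvariantForm.apply_weylGroup_smul P (B := (P.posRootForm ℤ).toInvariantForm)
    (⟨g, hg⟩ : P.weylGroup) x y

lemma smul_eq_of_root_eq (g : P.Aut) {i j : ι} (h : g • P.root i = P.root j) : g • i = j := by
  apply P.root.injective
  rw [root_smul, h]

/-- Two non-orthogonal roots of the same length are conjugate under the Weyl group. -/
theorem exists_weyl_smul_eq_of_rootForm_eq [Finite ι] [Fintype ι] (i j : ι)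
    (hno : ¬ P.IsOrthogonal i j)
    (hl : P.RootForm (P.root i) (P.root i) = P.RootForm (P.root j) (P.root j)) :
    ∃ g : P.Aut, g ∈ P.weylGroup ∧ g • i = j := by
  have hM := isAddTorsionFree P
  have hMr : Module.IsReflexive ℤ M := .of_isPerfPair P.toLinearMap
  have hpos := rootForm_root_pos P j
  have hpq : P.pairing j i = P.pairing i j := by
    have := pairing_mul_rootForm P i j
    rw [hl] at this
    exact mul_right_cancel₀ hpos.ne' this
  have hp0 : P.pairing i j ≠ 0 := fun h => hno (P.isOrthogonal_iff_pairing_eq_zero.mpr h)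
  have hcases := pairing_cases P i j
  simp only [Set.mem_insert_iff, Set.mem_singleton_iff, Prod.mk.injEq] at hcases
  have h4 : (P.pairing i j = 1 ∧ P.pairing j i = 1) ∨ (P.pairing i j = -1 ∧ P.pairing j i = -1) ∨
      (P.pairing i j = 2 ∧ P.pairing j i = 2) ∨ (P.pairing i j = -2 ∧ P.pairing j i = -2) := by
    omega
  rcases h4 with ⟨h1, h2⟩ | ⟨h1, h2⟩ | h | h
  · refine ⟨RootPairing.Equiv.reflection P j * (RootPairing.Equiv.reflection P i *
      RootPairing.Equiv.reflection P j),
      mul_mem (P.reflection_mem_weylGroup j)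
        (mul_mem (P.reflection_mem_weylGroup i) (P.reflection_mem_weylGroup j)), ?_⟩
    apply smul_eq_of_root_eq
    simp only [mul_smul, RootPairing.Equiv.reflection_smul, map_sub, map_neg,
      RootPairing.reflection_apply_self, RootPairing.reflection_apply_root, h1, h2, one_smul]
    abel
  · refine ⟨RootPairing.Equiv.reflection P i * RootPairing.Equiv.reflection P j,
      mul_mem (P.reflection_mem_weylGroup i) (P.reflection_mem_weylGroup j), ?_⟩
    apply smul_eq_of_root_eq
    simp only [mul_smul, RootPairing.Equiv.reflection_smul, map_sub, map_neg,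
      RootPairing.reflection_apply_self, RootPairing.reflection_apply_root, h1, h2, one_smul,
      neg_smul]
    abel
  · exact ⟨1, one_mem _, by rw [one_smul]; exact P.pairing_two_two_iff i j |>.mp h⟩
  · refine ⟨RootPairing.Equiv.reflection P i, P.reflection_mem_weylGroup i, ?_⟩
    apply smul_eq_of_root_eq
    rw [RootPairing.Equiv.reflection_smul, RootPairing.reflection_apply_self,
      (P.pairing_neg_two_neg_two_iff i j).mp h, neg_neg]

section Irreducible

lemma isOrthogonal_iff' (i j : ι) : P.IsOrthogonal i j ↔ P.pairing i j = 0 :=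
  ⟨fun h => h.1, fun h => ⟨h, P.pairing_eq_zero_iff'.mp h⟩⟩

lemma not_orth_neg (j : ι) : ¬ P.IsOrthogonal j (P.reflectionPerm j j) := by
  rw [isOrthogonal_iff', P.pairing_reflectionPerm_self_right, P.pairing_same]
  norm_num

lemma not_orth_self (j : ι) : ¬ P.IsOrthogonal j j := by
  rw [isOrthogonal_iff', P.pairing_same]
  norm_num

lemma not_orth_of_add {a b k : ι} (h : P.root k = P.root a + P.root b) :
    ¬ P.IsOrthogonal a k ∨ ¬ P.IsOrthogonal b k := by
  by_contra hcon
  push Not at hcon
  have h1 := P.pairing_eq_add_of_root_eq_add (l := k) h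
  rw [P.pairing_same, hcon.1.1, hcon.2.1] at h1
  norm_num at h1

lemma pairing_reflectionPerm_left (b k c : ι) :
    P.pairing (P.reflectionPerm b k) c = P.pairing k c - P.pairing k b * P.pairing b c := by
  have h := congrArg (fun x => P.toLinearMap x (P.coroot c)) (root_reflectionPerm' P b k)
  simp only [map_sub, LinearMap.sub_apply, LinearMap.map_smul₂, P.root_coroot_eq_pairing,
    smul_eq_mul] at h
  exact h

/-- The irreducibility hypothesis, in the closed/symmetric partition form. -/
def Irred : Prop :=
  ∀ R' : Set ι, IsClosedSub P R' → IsSymmSub P R' → IsClosedSub P R'ᶜ →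
      IsSymmSub P R'ᶜ → R' = ∅ ∨ R' = Set.univ

variable {P}

/-- In an irreducible root datum any two roots are joined by a chain of non-orthogonal roots. -/
lemma reflTransGen_of_irred (hirr : Irred P) (i j : ι) :
    Relation.ReflTransGen (fun a b : ι => ¬ P.IsOrthogonal a b) i j := by
  have h := hirr {j : ι | Relation.ReflTransGen (fun a b : ι => ¬ P.IsOrthogonal a b) i j}
    (by
      intro a b k ha hb hk
      rcases not_orth_of_add P hk with h | h
      · exact Relation.ReflTransGen.tail ha h
      · exact Relation.ReflTransGen.tail hb h)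
    (fun j hj => Relation.ReflTransGen.tail hj (not_orth_neg P j))
    (by
      intro a b k ha hb hk hkS
      rcases not_orth_of_add P hk with h | h
      · exact ha (Relation.ReflTransGen.tail hkS (fun h' => h h'.symm))
      · exact hb (Relation.ReflTransGen.tail hkS (fun h' => h h'.symm)))
    (by
      intro j hj hjS
      apply hj
      have := Relation.ReflTransGen.tail hjS (not_orth_neg P (P.reflectionPerm j j))
      have h2 : P.reflectionPerm (P.reflectionPerm j j) (P.reflectionPerm j j) = j := by
        apply P.root.injective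
        rw [root_neg, root_neg, neg_neg]
      rwa [h2] at this)
  rcases h with h | h
  · have : i ∈ ({j : ι | Relation.ReflTransGen (fun a b : ι => ¬ P.IsOrthogonal a b) i j} : Set ι) :=
      Relation.ReflTransGen.refl
    rw [h] at this
    exact absurd this (Set.notMem_empty i)
  · have : j ∈ (Set.univ : Set ι) := Set.mem_univ j
    rw [← h] at this
    exact this

/-- In an irreducible root datum, every root has a Weyl conjugate not orthogonal to a given root. -/
lemma exists_weyl_not_orth (hirr : Irred P) (i j : ι) :
    ∃ g : P.Aut, g ∈ P.weylGroup ∧ ¬ P.IsOrthogonal (g • i) j := by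
  have hc := reflTransGen_of_irred hirr i j
  induction hc with
  | refl => exact ⟨1, one_mem _, by rw [one_smul]; exact not_orth_self P i⟩
  | tail hab hbc ih =>
    rename_i b c
    obtain ⟨g, hg, hgb⟩ := ih
    by_cases hgc : P.IsOrthogonal (g • i) c
    · refine ⟨RootPairing.Equiv.reflection P b * g, mul_mem (P.reflection_mem_weylGroup b) hg, ?_⟩
      rw [mul_smul, reflection_aut_smul, isOrthogonal_iff']
      rw [pairing_reflectionPerm_left, hgc.1, zero_sub, neg_eq_zero]
      exact mul_ne_zero (fun h => hgb ((isOrthogonal_iff' P _ _).mpr h))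
        (fun h => hbc ((isOrthogonal_iff' P _ _).mpr h))
    · exact ⟨g, hg, hgc⟩

/-- In an irreducible root datum the Weyl group acts transitively on roots of a given length. -/
theorem exists_weyl_smul_eq_of_irred [Finite ι] [Fintype ι] (hirr : Irred P) (i j : ι)
    (hl : P.RootForm (P.root i) (P.root i) = P.RootForm (P.root j) (P.root j)) :
    ∃ g : P.Aut, g ∈ P.weylGroup ∧ g • i = j := by
  obtain ⟨g, hg, hno⟩ := exists_weyl_not_orth hirr i j
  have hl' : P.RootForm (P.root (g • i)) (P.root (g • i)) = P.RootForm (P.root j) (P.root j) := by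
    rw [root_smul, rootForm_weyl_smul P hg, hl]
  obtain ⟨h, hh, hhj⟩ := exists_weyl_smul_eq_of_rootForm_eq P (g • i) j hno hl'
  exact ⟨h * g, mul_mem hh hg, by rw [mul_smul, hhj]⟩

end Irreducible

end Groth.Agent.Lib.Helper2.RootD
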