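import Groth.Agent.Lib.Helper2.RootD.DominantHom
import Groth.Agent.Lib.Helper2.RootD.Length
import Groth.Agent.S5457
import Groth.Agent.S5454

/-!
# Root data: dominant homomorphisms, the dominance orders
-/

set_option autoImplicit false

open Set Function

namespace Groth.Agent.Lib.Helper2.RootD

open _root_.RootD

variable {ι M N : Type*} [AddCommGroup M] [AddCommGroup N]

section Regular

variable (P : RootPairing ι ℤ M N)

lemma rootForm_self_mul_coroot' [Fintype ι] (i : ι) (m : M) :
    P.RootForm (P.root i) (P.root i) * P.coroot' i m = 2 * P.RootForm (P.root i) m := by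
  have h := congrArg (P.toLinearMap m) (P.rootForm_self_smul_coroot i)
  rw [map_smul, map_nsmul, P.toLinearMap_apply_apply_Polarization, smul_eq_mul, nsmul_eq_mul] at h
  exact_mod_cast h

lemma coroot'_pos_iff [Fintype ι] (i : ι) (m : M) :
    0 < P.coroot' i m ↔ 0 < P.RootForm (P.root i) m := by
  have h := rootForm_self_mul_coroot' P i m
  have hpos := rootForm_root_pos P i
  constructor
  · intro h1
    have : 0 < P.RootForm (P.root i) (P.root i) * P.coroot' i m := mul_pos hpos h1
    omega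
  · intro h1
    by_contra h2
    push Not at h2
    have : P.RootForm (P.root i) (P.root i) * P.coroot' i m ≤ 0 :=
      mul_nonpos_of_nonneg_of_nonpos hpos.le h2
    omega

lemma coroot'_nonneg_iff [Fintype ι] (i : ι) (m : M) :
    0 ≤ P.coroot' i m ↔ 0 ≤ P.RootForm (P.root i) m := by
  have h := rootForm_self_mul_coroot' P i m
  have hpos := rootForm_root_pos P i
  constructor
  · intro h1
    have : 0 ≤ P.RootForm (P.root i) (P.root i) * P.coroot' i m := mul_nonneg hpos.le h1
    omega
  · intro h1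
    by_contra h2
    push Not at h2
    have : P.RootForm (P.root i) (P.root i) * P.coroot' i m < 0 :=
      mul_neg_of_pos_of_neg hpos h2
    omega

/-- There is a weight pairing strictly positively with all positive coroots. -/
theorem exists_regular_dominant [Finite ι] {S : Set ι} (hS : IsPosSys P S) :
    ∃ m₀ : M, ∀ i ∈ S, 0 < P.coroot' i m₀ := by
  classical
  let _ := Fintype.ofFinite ι
  obtain ⟨φ, hφ⟩ := exists_regular P.flip
  set m₁ : M := P.toLinearMap.toPerfPair.symm φ with hm₁def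
  have hm₁ : ∀ i, P.coroot' i m₁ = φ (P.coroot i) := by
    intro i
    show P.toLinearMap m₁ (P.coroot i) = φ (P.coroot i)
    rw [hm₁def, LinearMap.apply_symm_toPerfPair_self]
  have hne : ∀ i, P.RootForm (P.root i) m₁ ≠ 0 := by
    intro i h0
    have h := rootForm_self_mul_coroot' P i m₁
    rw [h0, mul_zero] at h
    rcases mul_eq_zero.mp h with h1 | h1
    · exact (rootForm_root_pos P i).ne' h1
    · apply hφ i
      show φ (P.coroot i) = 0
      rw [← hm₁ i]; exact h1
  set ψ : M →+ ℤ := (P.RootForm.flip m₁).toAddMonoidHom with hψ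
  have hψa : ∀ x, ψ x = P.RootForm x m₁ := fun x => rfl
  have hQ : IsPosSys P {i : ι | 0 < ψ (P.root i)} :=
    Groth.Agent.S5457.result P ψ (fun i => by
      rcases lt_or_gt_of_ne (hne i) with h | h
      · exact Or.inr (by rw [hψa]; exact h)
      · exact Or.inl (by rw [hψa]; exact h))
  obtain ⟨g, -, hg⟩ := Groth.Agent.S5454.result P _ S hQ hS
  refine ⟨g • m₁, fun i hi => ?_⟩
  rw [← hg] at hi
  obtain ⟨q, hq, rfl⟩ := hi
  rw [coroot'_aut_smul, inv_smul_smul, coroot'_pos_iff]
  exact hq

end Regular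

section Coeffs

variable {P : RootPairing ι ℤ M N} {Δ : Set ι} (hΔ : IsSimpleSys P Δ)
  {Γ : Type*} [AddCommGroup Γ] [LinearOrder Γ] [IsOrderedAddMonoid Γ] (f : M →+ Γ)

include hΔ in
lemma dominance_coeffs_aux [Fintype ι] (hdom : ∀ i ∈ posOf P Δ, 0 ≤ f (P.root i)) :
    ∀ (n : ℕ) (l : List ι), l.length = n → IsMinWord P Δ l →
      ∃ c : ι → Γ, (∀ i, 0 ≤ c i) ∧ (∀ i, i ∉ posOf P Δ → c i = 0) ∧
        ∀ m : M, f m - f (rprod P l • m) = ∑ i, (P.coroot' i m) • c i := by
  classical
  intro n
  induction n with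
  | zero =>
    intro l hlen _
    refine ⟨fun _ => 0, fun _ => le_rfl, fun _ _ => rfl, fun m => ?_⟩
    rw [List.length_eq_zero_iff.mp hlen, rprod_nil, one_smul, sub_self]
    simp
  | succ n ih =>
    intro l hlen hmin
    have hne : l ≠ [] := by
      intro h; rw [h] at hlen; simp at hlen
    obtain ⟨l₀, a, rfl⟩ : ∃ l₀ a, l = l₀ ++ [a] :=
      ⟨l.dropLast, l.getLast hne, (List.dropLast_append_getLast hne).symm⟩
    have hlen' : l₀.length = n := by
      simp only [List.length_append, List.length_cons, List.length_nil] at hlen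
      omega
    have haΔ : a ∈ Δ := hmin.mem_last
    have hpos := IsMinWord.pos hΔ (le_refl Δ) hmin
    obtain ⟨c', hc'nn, hc'supp, hc'⟩ := ih l₀ hlen' hmin.prefix
    have hx : 0 ≤ f (rprod P l₀ • P.root a) := by
      rw [← root_smul]; exact hdom _ hpos
    refine ⟨fun i => c' i + if i = a then f (rprod P l₀ • P.root a) else 0, fun i => ?_,
      fun i hi => ?_, fun m => ?_⟩
    · show 0 ≤ c' i + (if i = a then f (rprod P l₀ • P.root a) else 0)
      apply add_nonneg (hc'nn i)
      split_ifs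
      · exact hx
      · exact le_rfl
    · have hia : i ≠ a := fun h => hi (h ▸ mem_posOf_of_mem haΔ)
      show c' i + (if i = a then f (rprod P l₀ • P.root a) else 0) = 0
      rw [hc'supp i hi, if_neg hia, add_zero]
    · have h1 : f (rprod P (l₀ ++ [a]) • m) =
          f (rprod P l₀ • m) - (P.coroot' a m) • f (rprod P l₀ • P.root a) := by
        rw [rprod_snoc, mul_smul, RootPairing.Equiv.reflection_smul, P.reflection_apply, smul_sub,
          smul_comm, map_sub, map_zsmul]
      have h2 : ∑ i, (P.coroot' i m) • (if i = a then f (rprod P l₀ • P.root a) else 0) =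
          (P.coroot' a m) • f (rprod P l₀ • P.root a) := by
        rw [Finset.sum_eq_single a]
        · rw [if_pos rfl]
        · intro b _ hb
          rw [if_neg hb, smul_zero]
        · intro h; exact absurd (Finset.mem_univ a) h
      simp only [smul_add]
      rw [Finset.sum_add_distrib, h2, ← hc' m, h1]
      abel

include hΔ in
lemma dominance_coeffs [Fintype ι] (hdom : ∀ i ∈ posOf P Δ, 0 ≤ f (P.root i)) {g : P.Aut}
    (hg : g ∈ P.weylGroup) :
    ∃ c : ι → Γ, (∀ i, 0 ≤ c i) ∧ (∀ i, i ∉ posOf P Δ → c i = 0) ∧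
      ∀ m : M, f m - f (g • m) = ∑ i, (P.coroot' i m) • c i := by
  have hg' : g ∈ Subgroup.closure ((fun i : ι => RootPairing.Equiv.reflection P i) '' Δ) := by
    rw [(Groth.Agent.S5508.result P Δ hΔ).1]; exact hg
  obtain ⟨l, hmin, rfl⟩ := exists_minWord P hg'
  exact dominance_coeffs_aux hΔ f hdom l.length l rfl hmin

end Coeffs

lemma map_reflection_smul {P : RootPairing ι ℤ M N} {Γ : Type*} [AddCommGroup Γ] (f : M →+ Γ)
    (i : ι) (m : M) :
    f (RootPairing.Equiv.reflection P i • m) = f m - (P.coroot' i m) • f (P.root i) := by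
  rw [RootPairing.Equiv.reflection_smul, P.reflection_apply, map_sub, map_zsmul]

/-- Characterisations of dominance by the strong and weak dominance orders. -/
theorem dominant_iff (P : RootPairing ι ℤ M N) [Fintype ι] (S : Set ι) (hS : IsPosSys P S)
    {Γ : Type*} [AddCommGroup Γ] [LinearOrder Γ] [IsOrderedAddMonoid Γ] (f : M →+ Γ) :
    ((∀ i ∈ S, 0 ≤ f (P.root i)) ↔
      ∀ g : P.Aut, g ∈ P.weylGroup → ∃ c : ι → Γ, (∀ i, 0 ≤ c i) ∧ (∀ i, i ∉ S → c i = 0) ∧
        ∀ m : M, f m - f (RootPairing.Equiv.weightHom P g m) = ∑ i, (P.coroot' i m) • c i) ∧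
    ((∀ i ∈ S, 0 ≤ f (P.root i)) ↔
      ∀ g : P.Aut, g ∈ P.weylGroup → ∀ m : M, (∀ i ∈ S, 0 ≤ P.coroot' i m) →
        f (RootPairing.Equiv.weightHom P g m) ≤ f m) := by
  obtain ⟨m₀, hm₀⟩ := exists_regular_dominant P hS
  obtain ⟨Δ, hΔ, rfl⟩ := exists_isSimpleSys_eq_posOf P hS
  have hcancel : ∀ (n : ℤ) (x : Γ), 0 < n → 0 ≤ n • x → 0 ≤ x := by
    intro n x hn hx
    by_contra h
    push Not at h
    have := zsmul_pos (neg_pos.mpr h) hn
    rw [smul_neg, neg_pos] at this
    exact absurd hx (not_le.mpr this)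
  have hA : (∀ i ∈ posOf P Δ, 0 ≤ f (P.root i)) →
      ∀ g : P.Aut, g ∈ P.weylGroup → ∃ c : ι → Γ, (∀ i, 0 ≤ c i) ∧
        (∀ i, i ∉ posOf P Δ → c i = 0) ∧
        ∀ m : M, f m - f (RootPairing.Equiv.weightHom P g m) = ∑ i, (P.coroot' i m) • c i :=
    fun hdom g hg => dominance_coeffs hΔ f hdom hg
  refine ⟨⟨hA, fun h i hi => ?_⟩, ⟨fun hdom g hg m hm => ?_, fun h i hi => ?_⟩⟩
  · obtain ⟨c, hcnn, hcsupp, hc⟩ := h _ (P.reflection_mem_weylGroup i)
    have h1 := hc m₀
    have h2 : f (RootPairing.Equiv.weightHom P (RootPairing.Equiv.reflection P i) m₀) =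
        f m₀ - (P.coroot' i m₀) • f (P.root i) := map_reflection_smul f i m₀
    rw [h2, sub_sub_cancel] at h1
    apply hcancel _ _ (hm₀ i hi)
    rw [h1]
    apply Finset.sum_nonneg
    intro j _
    by_cases hj : j ∈ posOf P Δ
    · exact smul_nonneg (hm₀ j hj).le (hcnn j)
    · rw [hcsupp j hj, smul_zero]
  · obtain ⟨c, hcnn, hcsupp, hc⟩ := hA hdom g hg
    have h1 := hc m
    have h2 : 0 ≤ ∑ i, (P.coroot' i m) • c i := by
      apply Finset.sum_nonneg
      intro j _
      by_cases hj : j ∈ posOf P Δ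
      · exact smul_nonneg (hm j hj) (hcnn j)
      · rw [hcsupp j hj, smul_zero]
    rw [← h1] at h2
    exact sub_nonneg.mp h2
  · have h1 := h _ (P.reflection_mem_weylGroup i) m₀ (fun j hj => (hm₀ j hj).le)
    have h2 : f (RootPairing.Equiv.weightHom P (RootPairing.Equiv.reflection P i) m₀) =
        f m₀ - (P.coroot' i m₀) • f (P.root i) := map_reflection_smul f i m₀
    rw [h2] at h1
    apply hcancel _ _ (hm₀ i hi)
    have := sub_le_self_iff (f m₀) |>.mp h1
    exact this

end Groth.Agent.Lib.Helper2.RootD
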