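import Groth.Agent.Lib.Helper2.RootD.DominantHom2
import Groth.Agent.S5452

/-!
# Root data: the weak dominance order and maxima over Weyl-stable finite sets
-/

set_option autoImplicit false

open Set Function

namespace Groth.Agent.Lib.Helper2.RootD

open _root_.RootD

variable {ι M N : Type*} [AddCommGroup M] [AddCommGroup N]

variable (P : RootPairing ι ℤ M N)

lemma weightHom_apply_eq_smul (g : P.Aut) (x : M) :
    RootPairing.Equiv.weightHom P g x = g • x := rfl

lemma finite_weylGroup [Finite ι] : Finite P.weylGroup :=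
  Finite.of_injective _ (Groth.Agent.S5452.result P)

/-- Every weight is conjugate under the Weyl group to a dominant weight. -/
lemma exists_weyl_dominant_weight [Finite ι] {S : Set ι} (hS : IsPosSys P S) (m : M) :
    ∃ g : P.Aut, g ∈ P.weylGroup ∧ ∀ i ∈ S, 0 ≤ P.coroot' i (g • m) := by
  classical
  let _ := Fintype.ofFinite ι
  obtain ⟨Δ, hΔ, rfl⟩ := exists_isSimpleSys_eq_posOf P hS
  have hcl : IsClosedSub P {i : ι | 0 ≤ P.coroot' i m} := by
    intro i j k hi hj hk
    have hi' : 0 ≤ P.coroot' i m := hi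
    have hj' : 0 ≤ P.coroot' j m := hj
    show 0 ≤ P.coroot' k m
    rw [coroot'_nonneg_iff] at hi' hj' ⊢
    rw [hk, map_add, LinearMap.add_apply]
    exact add_nonneg hi' hj'
  have hP2 : ∀ i, i ∈ {i : ι | 0 ≤ P.coroot' i m} ∨
      P.reflectionPerm i i ∈ {i : ι | 0 ≤ P.coroot' i m} := by
    intro i
    rcases le_total 0 (P.RootForm (P.root i) m) with h | h
    · left
      show 0 ≤ P.coroot' i m
      rw [coroot'_nonneg_iff]; exact h
    · right
      show 0 ≤ P.coroot' (P.reflectionPerm i i) m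
      rw [coroot'_nonneg_iff, root_neg, map_neg, LinearMap.neg_apply]
      exact neg_nonneg.mpr h
  obtain ⟨g, hg, hsub⟩ := exists_weyl_posOf_subset P hΔ hP2 hcl
  refine ⟨g⁻¹, inv_mem hg, fun i hi => ?_⟩
  rw [coroot'_aut_smul, inv_inv]
  exact hsub ((smul_mem_posOf_iff P g i).mpr hi)

lemma dominant_le [Finite ι] {S : Set ι} (hS : IsPosSys P S)
    {Γ : Type*} [AddCommGroup Γ] [LinearOrder Γ] [IsOrderedAddMonoid Γ] (f : M →+ Γ)
    (hf : ∀ i ∈ S, 0 ≤ f (P.root i)) {g : P.Aut} (hg : g ∈ P.weylGroup) {m : M}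
    (hm : ∀ i ∈ S, 0 ≤ P.coroot' i m) : f (g • m) ≤ f m := by
  classical
  let _ := Fintype.ofFinite ι
  exact (dominant_iff P S hS f).2.mp hf g hg m hm

/-- The weak dominance order on dominant maps is detected by maxima over Weyl-stable finite sets. -/
theorem weakLE_iff_sup (P : RootPairing ι ℤ M N) [Finite ι] (S : Set ι) (hS : IsPosSys P S)
    {Γ : Type*} [AddCommGroup Γ] [LinearOrder Γ] [IsOrderedAddMonoid Γ] (f₁ f₂ : M →+ Γ)
    (hf₁ : ∀ i ∈ S, 0 ≤ f₁ (P.root i)) (hf₂ : ∀ i ∈ S, 0 ≤ f₂ (P.root i)) :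
    (∀ m : M, (∀ i ∈ S, 0 ≤ P.coroot' i m) → f₁ m ≤ f₂ m) ↔
    ∀ (X : Finset M) (hX : X.Nonempty),
      (∀ g : P.Aut, g ∈ P.weylGroup → ∀ m ∈ X, RootPairing.Equiv.weightHom P g m ∈ X) →
      X.sup' hX f₁ ≤ X.sup' hX f₂ := by
  classical
  constructor
  · intro h X hX hstab
    obtain ⟨x₁, hx₁, hsup⟩ := Finset.exists_mem_eq_sup' hX f₁
    obtain ⟨w, hw, hdomw⟩ := exists_weyl_dominant_weight P hS x₁
    have hmem : w • x₁ ∈ X := by
      have := hstab w hw x₁ hx₁
      rwa [weightHom_apply_eq_smul] at this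
    have h1 : f₁ x₁ ≤ f₁ (w • x₁) := by
      have := dominant_le P hS f₁ hf₁ (inv_mem hw) hdomw
      rwa [inv_smul_smul] at this
    rw [hsup]
    exact h1.trans ((h _ hdomw).trans (Finset.le_sup' f₂ hmem))
  · intro h m hm
    have hfin := finite_weylGroup P
    set X : Finset M := (Set.finite_range (fun g : P.weylGroup => (g : P.Aut) • m)).toFinset
      with hXdef
    have hmemX : ∀ x, x ∈ X ↔ ∃ g : P.weylGroup, (g : P.Aut) • m = x := by
      intro x
      rw [hXdef, Set.Finite.mem_toFinset]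
      rfl
    have hmX : m ∈ X := (hmemX m).mpr ⟨1, one_smul _ m⟩
    have hX : X.Nonempty := ⟨m, hmX⟩
    have hstab : ∀ g : P.Aut, g ∈ P.weylGroup → ∀ x ∈ X,
        RootPairing.Equiv.weightHom P g x ∈ X := by
      intro g hg x hx
      obtain ⟨k, rfl⟩ := (hmemX x).mp hx
      rw [weightHom_apply_eq_smul]
      refine (hmemX _).mpr ⟨⟨g * (k : P.Aut), mul_mem hg k.2⟩, ?_⟩
      exact mul_smul g (k : P.Aut) m
    have h1 := h X hX hstab
    have h2 : f₁ m ≤ X.sup' hX f₁ := Finset.le_sup' f₁ hmX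
    have h3 : X.sup' hX f₂ ≤ f₂ m := by
      apply Finset.sup'_le
      intro x hx
      obtain ⟨k, rfl⟩ := (hmemX x).mp hx
      exact dominant_le P hS f₂ hf₂ k.2 hm
    exact h2.trans (h1.trans h3)

end Groth.Agent.Lib.Helper2.RootD
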