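import Groth.Agent.Lib.Helper2.RootD.Weyl

/-!
# Root data: extending odd additive functions on roots to the root lattice
-/

set_option autoImplicit false

open Set Function

namespace Groth.Agent.Lib.Helper2.RootD

open _root_.RootD

variable {ι M N : Type*} [AddCommGroup M] [AddCommGroup N]

section

variable {P : RootPairing ι ℤ M N} {Δ : Set ι} (hΔ : IsSimpleSys P Δ)

include hΔ in
lemma span_range_root_eq_spanOf : Submodule.span ℤ (Set.range P.root) = spanOf P Δ := by
  apply le_antisymm
  · rw [Submodule.span_le]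
    rintro _ ⟨k, rfl⟩
    exact root_mem_spanOf hΔ k
  · apply Submodule.span_mono
    rintro _ ⟨δ, rfl⟩
    exact ⟨δ, rfl⟩

variable {G : Type*} [AddCommGroup G] (f : ι → G)

/-- The linear map on the span of `Δ` defined by the values `f` on the basis `Δ`. -/
noncomputable def extendL : spanOf P Δ →ₗ[ℤ] G :=
  (basisOf hΔ.linInd).constr ℤ (fun δ : Δ => f δ)

lemma extendL_of_mem (δ : Δ) : extendL hΔ f (rootL hΔ δ) = f δ := by
  have : rootL hΔ δ = basisOf hΔ.linInd δ := Subtype.ext (basisOf_apply hΔ.linInd δ).symm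
  unfold extendL
  rw [this, Module.Basis.constr_basis]

lemma extendL_of_mem_posOf [Finite ι]
    (hadd : ∀ i j k : ι, P.root k = P.root i + P.root j → f k = f i + f j) :
    ∀ k ∈ posOf P Δ, extendL hΔ f (rootL hΔ k) = f k := by
  have key : ∀ n : ℕ, ∀ k ∈ posOf P Δ, ht hΔ k ≤ n → extendL hΔ f (rootL hΔ k) = f k := by
    intro n
    induction n with
    | zero =>
      intro k hk h
      have := ht_pos_of_mem_posOf hΔ hk
      omega
    | succ n ih =>
      intro k hk h
      by_cases hkΔ : k ∈ Δ
      · exact extendL_of_mem hΔ f ⟨k, hkΔ⟩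
      · obtain ⟨j, hj, δ, hδ, hsum⟩ := exists_decomp hΔ hk hkΔ
        have h1 := ht_add hΔ hsum
        have h2 : ht hΔ δ = 1 := ht_of_mem hΔ ⟨δ, hδ⟩
        have hj' := ih j hj (by push_cast at h ⊢; omega)
        have h3 : rootL hΔ k = rootL hΔ j + rootL hΔ δ := Subtype.ext hsum
        rw [h3, map_add, hj', extendL_of_mem hΔ f ⟨δ, hδ⟩, hadd j δ k hsum]
  intro k hk
  exact key (ht hΔ k).toNat k hk (Int.self_le_toNat _)

lemma extendL_root [Finite ι] (hneg : ∀ i : ι, f (P.reflectionPerm i i) = -f i)
    (hadd : ∀ i j k : ι, P.root k = P.root i + P.root j → f k = f i + f j) (k : ι) :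
    extendL hΔ f (rootL hΔ k) = f k := by
  rcases mem_posOf_or_neg hΔ k with h | h
  · exact extendL_of_mem_posOf hΔ f hadd k h
  · have h1 := extendL_of_mem_posOf hΔ f hadd _ h
    have h2 : rootL hΔ (P.reflectionPerm k k) = -rootL hΔ k := Subtype.ext (root_neg P k)
    rw [h2, map_neg, hneg] at h1
    exact neg_injective h1

end

/-- An odd function on the roots which is additive on pairs of roots whose sum is a root extends
uniquely to an additive map on the root lattice. -/
theorem existsUnique_addHom (P : RootPairing ι ℤ M N) [Finite ι] {G : Type*} [AddCommGroup G]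
    (f : ι → G) (hneg : ∀ i : ι, f (P.reflectionPerm i i) = -f i)
    (hadd : ∀ i j k : ι, P.root k = P.root i + P.root j → f k = f i + f j) :
    ∃! φ : Submodule.span ℤ (Set.range P.root) →+ G,
      ∀ i : ι, φ ⟨P.root i, Submodule.subset_span (Set.mem_range_self i)⟩ = f i := by
  obtain ⟨Δ, hΔ⟩ := exists_isSimpleSys P
  have hle : Submodule.span ℤ (Set.range P.root) ≤ spanOf P Δ :=
    (span_range_root_eq_spanOf hΔ).le
  refine ⟨((extendL hΔ f).comp (Submodule.inclusion hle)).toAddMonoidHom, ?_, ?_⟩
  · intro i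
    exact extendL_root hΔ f hneg hadd i
  · intro ψ hψ
    ext ⟨x, hx⟩
    induction hx using Submodule.span_induction with
    | mem y hy =>
      obtain ⟨i, rfl⟩ := hy
      rw [hψ i]
      exact (extendL_root hΔ f hneg hadd i).symm
    | zero =>
      have : (⟨0, Submodule.zero_mem _⟩ : Submodule.span ℤ (Set.range P.root)) = 0 := rfl
      rw [this, map_zero, map_zero]
    | add y z hy hz ihy ihz =>
      have : (⟨y + z, Submodule.add_mem _ hy hz⟩ : Submodule.span ℤ (Set.range P.root)) =
          ⟨y, hy⟩ + ⟨z, hz⟩ := rfl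
      rw [this, map_add, map_add, ihy, ihz]
    | smul a y hy ihy =>
      have : (⟨a • y, Submodule.smul_mem _ a hy⟩ : Submodule.span ℤ (Set.range P.root)) =
          a • ⟨y, hy⟩ := rfl
      rw [this, map_zsmul, map_zsmul, ihy]

end Groth.Agent.Lib.Helper2.RootD
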