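import Groth.Agent.Lib.Helper2.RootD.Weyl

/-!
# Root data: subsets of a simple system, parabolic sets of roots
-/

set_option autoImplicit false

open Set Function

namespace Groth.Agent.Lib.Helper2.RootD

open _root_.RootD

variable {ι M N : Type*} [AddCommGroup M] [AddCommGroup N]

section Coord

variable {P : RootPairing ι ℤ M N} {Δ Δ' : Set ι}

lemma repr_eq_zero_of_mem_span_sub (hli : LinearIndepOn ℤ P.root Δ) (δ : Δ) (hδ : (δ : ι) ∉ Δ') :
    ∀ y ∈ Submodule.span ℤ (P.root '' (Δ ∩ Δ')), ∀ h : y ∈ spanOf P Δ,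
      (basisOf hli).repr ⟨y, h⟩ δ = 0 := by
  classical
  intro y hy
  induction hy using Submodule.span_induction with
  | mem y hy =>
    obtain ⟨i, hi, rfl⟩ := hy
    intro h
    have : (⟨P.root i, h⟩ : spanOf P Δ) = basisOf hli ⟨i, hi.1⟩ :=
      Subtype.ext (basisOf_apply hli ⟨i, hi.1⟩).symm
    rw [this, Module.Basis.repr_self, Finsupp.single_apply, if_neg]
    rintro rfl
    exact hδ hi.2
  | zero =>
    intro h
    have : (⟨0, h⟩ : spanOf P Δ) = 0 := rfl
    rw [this, map_zero]; simp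
  | add y z hy hz ihy ihz =>
    intro h
    have hle : Submodule.span ℤ (P.root '' (Δ ∩ Δ')) ≤ spanOf P Δ := by
      apply Submodule.span_mono
      rintro _ ⟨i, hi, rfl⟩
      exact ⟨⟨i, hi.1⟩, rfl⟩
    have hy' := hle hy
    have hz' := hle hz
    have : (⟨y + z, h⟩ : spanOf P Δ) = ⟨y, hy'⟩ + ⟨z, hz'⟩ := rfl
    rw [this, map_add, Finsupp.add_apply, ihy hy', ihz hz', add_zero]
  | smul a y hy ihy =>
    intro h
    have hle : Submodule.span ℤ (P.root '' (Δ ∩ Δ')) ≤ spanOf P Δ := by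
      apply Submodule.span_mono
      rintro _ ⟨i, hi, rfl⟩
      exact ⟨⟨i, hi.1⟩, rfl⟩
    have hy' := hle hy
    have : (⟨a • y, h⟩ : spanOf P Δ) = a • ⟨y, hy'⟩ := rfl
    rw [this, map_smul, Finsupp.smul_apply, ihy hy', smul_zero]

lemma natSpan_le_span (S : Set ι) : ∀ x ∈ natSpan P S, x ∈ Submodule.span ℤ (P.root '' S) := by
  intro x hx
  induction hx using AddSubmonoid.closure_induction with
  | mem y hy => exact Submodule.subset_span hy
  | zero => exact Submodule.zero_mem _
  | add y z _ _ hy hz => exact Submodule.add_mem _ hy hz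

lemma mem_span_sub_of_repr (hli : LinearIndepOn ℤ P.root Δ) (x : spanOf P Δ)
    (h' : ∀ δ, (basisOf hli).repr x δ ≠ 0 → (δ : ι) ∈ Δ') :
    (x : M) ∈ Submodule.span ℤ (P.root '' (Δ ∩ Δ')) := by
  rw [coe_eq_sum_repr hli x, Finsupp.sum]
  refine Submodule.sum_mem _ fun δ hδ => ?_
  apply Submodule.smul_mem
  refine Submodule.subset_span (s := P.root '' (Δ ∩ Δ')) ?_
  exact Set.mem_image_of_mem _ ⟨δ.2, h' δ (Finsupp.mem_support_iff.mp hδ)⟩

lemma mem_natSpan_sub_of_repr (hli : LinearIndepOn ℤ P.root Δ) (x : spanOf P Δ)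
    (h : ∀ δ, 0 ≤ (basisOf hli).repr x δ)
    (h' : ∀ δ, (basisOf hli).repr x δ ≠ 0 → (δ : ι) ∈ Δ') :
    (x : M) ∈ natSpan P (Δ ∩ Δ') := by
  rw [coe_eq_sum_repr hli x, Finsupp.sum]
  refine AddSubmonoid.sum_mem _ fun δ hδ => ?_
  have h1 : ((basisOf hli).repr x δ) = (((basisOf hli).repr x δ).toNat : ℤ) :=
    (Int.toNat_of_nonneg (h δ)).symm
  rw [h1, natCast_zsmul]
  have hmem : (δ : ι) ∈ Δ ∩ Δ' := ⟨δ.2, h' δ (Finsupp.mem_support_iff.mp hδ)⟩
  exact AddSubmonoid.nsmul_mem _ (root_mem_natSpan P hmem) _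

end Coord

section Simple

variable {P : RootPairing ι ℤ M N} {Δ : Set ι} (hΔ : IsSimpleSys P Δ)

/-- Roots in the span of a subset of a simple system: coefficients vanish outside the subset. -/
lemma root_mem_span_sub_iff {Δ' : Set ι} (hsub : Δ' ⊆ Δ) (k : ι) :
    k ∈ inSpan P Δ' ↔ ∀ δ : Δ, coef hΔ k δ ≠ 0 → (δ : ι) ∈ Δ' := by
  have hΔ' : Δ ∩ Δ' = Δ' := Set.inter_eq_right.mpr hsub
  constructor
  · intro hk δ hδ
    by_contra hcon
    apply hδ
    have hk' : P.root k ∈ Submodule.span ℤ (P.root '' (Δ ∩ Δ')) := by rw [hΔ']; exact hk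
    exact repr_eq_zero_of_mem_span_sub hΔ.linInd δ hcon _ hk' _
  · intro h
    have := mem_span_sub_of_repr hΔ.linInd (rootL hΔ k) h
    rw [hΔ'] at this
    exact this

/-- Roots in the monoid generated by a subset of a simple system. -/
lemma root_mem_natSpan_sub_iff {Δ' : Set ι} (hsub : Δ' ⊆ Δ) (k : ι) :
    k ∈ posOf P Δ' ↔ (∀ δ : Δ, 0 ≤ coef hΔ k δ) ∧ ∀ δ : Δ, coef hΔ k δ ≠ 0 → (δ : ι) ∈ Δ' := by
  have hΔ' : Δ ∩ Δ' = Δ' := Set.inter_eq_right.mpr hsub
  constructor
  · intro hk
    refine ⟨coef_nonneg_of_mem_posOf hΔ (natSpan_mono P hsub hk), ?_⟩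
    exact (root_mem_span_sub_iff hΔ hsub k).mp (natSpan_le_span Δ' _ hk)
  · rintro ⟨h1, h2⟩
    have := mem_natSpan_sub_of_repr hΔ.linInd (rootL hΔ k) h1 h2
    rw [hΔ'] at this
    exact this

lemma reflectionPerm_neg (P : RootPairing ι ℤ M N) (k : ι) :
    P.reflectionPerm (P.reflectionPerm k k) (P.reflectionPerm k k) = k := by
  apply P.root.injective
  rw [root_neg, root_neg, neg_neg]

lemma neg_root_mem_natSpan_iff (P : RootPairing ι ℤ M N) (S : Set ι) (k : ι) :
    -P.root k ∈ natSpan P S ↔ P.reflectionPerm k k ∈ posOf P S := by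
  show _ ↔ P.root (P.reflectionPerm k k) ∈ natSpan P S
  rw [root_neg]

include hΔ in
/-- A closed set of roots containing a subset `Δ'` of a simple system contains the roots which
are non-negative combinations of `Δ'`. -/
lemma posOf_sub_subset_of_isClosedSub [Finite ι] {Δ' Q : Set ι} (hsub : Δ' ⊆ Δ)
    (hcl : IsClosedSub P Q) (hΔQ : Δ' ⊆ Q) : posOf P Δ' ⊆ Q := by
  classical
  have key : ∀ n : ℕ, ∀ k ∈ posOf P Δ', ht hΔ k ≤ n → k ∈ Q := by
    intro n
    induction n with
    | zero =>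
      intro k hk h
      have := ht_pos_of_mem_posOf hΔ (natSpan_mono P hsub hk)
      omega
    | succ n ih =>
      intro k hk h
      have hkΔ' := (root_mem_natSpan_sub_iff hΔ hsub k).mp hk
      have hkpos : k ∈ posOf P Δ := natSpan_mono P hsub hk
      by_cases hkΔ : k ∈ Δ
      · apply hΔQ
        have := hkΔ'.2 ⟨k, hkΔ⟩
        rw [coef_of_mem hΔ ⟨k, hkΔ⟩, Finsupp.single_eq_same] at this
        exact this one_ne_zero
      · obtain ⟨j, hj, δ, hδ, hsum⟩ := exists_decomp hΔ hkpos hkΔ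
        have h1 := ht_add hΔ hsum
        have h2 : ht hΔ δ = 1 := ht_of_mem hΔ ⟨δ, hδ⟩
        have hc := coef_add hΔ hsum
        rw [coef_of_mem hΔ ⟨δ, hδ⟩] at hc
        have hjnn := coef_nonneg_of_mem_posOf hΔ hj
        have hδ' : δ ∈ Δ' := by
          apply hkΔ'.2 ⟨δ, hδ⟩
          rw [hc, Finsupp.add_apply, Finsupp.single_eq_same]
          have := hjnn ⟨δ, hδ⟩
          omega
        have hj' : j ∈ posOf P Δ' := by
          rw [root_mem_natSpan_sub_iff hΔ hsub]
          refine ⟨hjnn, fun ε hε => ?_⟩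
          apply hkΔ'.2 ε
          rw [hc, Finsupp.add_apply, Finsupp.single_apply]
          have := hjnn ε
          split_ifs <;> omega
        exact hcl (ih j hj' (by push_cast at h ⊢; omega)) (hΔQ hδ') hsum
  intro k hk
  exact key (ht hΔ k).toNat k hk (Int.self_le_toNat _)

include hΔ in
/-- For a closed set of roots `P'` containing the positive roots of `Δ`, a positive root whose
opposite lies in `P'` is a combination of the simple roots whose opposite lies in `P'`. -/
lemma mem_posOf_sub_of_neg_mem [Finite ι] {P' : Set ι} (hcl : IsClosedSub P P')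
    (hSP : posOf P Δ ⊆ P') :
    ∀ j ∈ posOf P Δ, P.reflectionPerm j j ∈ P' →
      j ∈ posOf P {i : ι | i ∈ Δ ∧ P.reflectionPerm i i ∈ P'} := by
  have key : ∀ n : ℕ, ∀ j ∈ posOf P Δ, ht hΔ j ≤ n → P.reflectionPerm j j ∈ P' →
      j ∈ posOf P {i : ι | i ∈ Δ ∧ P.reflectionPerm i i ∈ P'} := by
    intro n
    induction n with
    | zero =>
      intro k hk h
      have := ht_pos_of_mem_posOf hΔ hk
      omega
    | succ n ih =>
      intro k hk h hneg
      by_cases hkΔ : k ∈ Δ
      · exact root_mem_natSpan P ⟨hkΔ, hneg⟩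
      · obtain ⟨j, hj, δ, hδ, hsum⟩ := exists_decomp hΔ hk hkΔ
        have h1 := ht_add hΔ hsum
        have h2 : ht hΔ δ = 1 := ht_of_mem hΔ ⟨δ, hδ⟩
        have hjneg : P.reflectionPerm j j ∈ P' := by
          apply hcl hneg (hSP (mem_posOf_of_mem hδ))
          rw [root_neg, root_neg, hsum]; abel
        have hδneg : P.reflectionPerm δ δ ∈ P' := by
          apply hcl hneg (hSP hj)
          rw [root_neg, root_neg, hsum]; abel
        have hj' := ih j hj (by push_cast at h ⊢; omega) hjneg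
        show P.root k ∈ natSpan P _
        rw [hsum]
        exact add_mem hj' (root_mem_natSpan P ⟨hδ, hδneg⟩)
  intro j hj
  exact key (ht hΔ j).toNat j hj (Int.self_le_toNat _)

include hΔ in
/-- The structure of a closed set of roots containing the positive roots of a simple system. -/
theorem closed_superset_eq [Finite ι] {P' : Set ι} (hcl : IsClosedSub P P')
    (hSP : posOf P Δ ⊆ P') :
    P' = posOf P Δ ∪
      {k : ι | -P.root k ∈ natSpan P {i : ι | i ∈ Δ ∧ P.reflectionPerm i i ∈ P'}} := by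
  apply Set.Subset.antisymm
  · intro k hk
    rcases mem_posOf_or_neg hΔ k with h | h
    · exact Or.inl h
    · right
      show -P.root k ∈ natSpan P _
      rw [neg_root_mem_natSpan_iff]
      apply mem_posOf_sub_of_neg_mem hΔ hcl hSP _ h
      rw [reflectionPerm_neg]; exact hk
  · rintro k (hk | hk)
    · exact hSP hk
    · have hk' : -P.root k ∈ natSpan P {i : ι | i ∈ Δ ∧ P.reflectionPerm i i ∈ P'} := hk
      rw [neg_root_mem_natSpan_iff] at hk'
      have hclQ : IsClosedSub P {i : ι | P.reflectionPerm i i ∈ P'} := by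
        intro a b c ha hb hc
        apply hcl ha hb
        rw [root_neg, root_neg, root_neg, hc]; abel
      have := posOf_sub_subset_of_isClosedSub hΔ (Δ' := {i : ι | i ∈ Δ ∧ P.reflectionPerm i i ∈ P'})
        (fun i hi => hi.1) hclQ (fun i hi => hi.2) hk'
      have h2 : P.reflectionPerm (P.reflectionPerm k k) (P.reflectionPerm k k) ∈ P' := this
      rwa [reflectionPerm_neg] at h2

include hΔ in
/-- A reflection in a simple root of `Δ'` preserves the positive roots outside the span of `Δ'`. -/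
lemma reflectionPerm_preserves [Finite ι] {Δ' : Set ι} (hsub : Δ' ⊆ Δ) {i : ι} (hi : i ∈ Δ')
    {k : ι} (hk : k ∈ posOf P Δ) (hk' : k ∉ inSpan P Δ') :
    P.reflectionPerm i k ∈ posOf P Δ ∧ P.reflectionPerm i k ∉ inSpan P Δ' := by
  have hiS : P.root i ∈ Submodule.span ℤ (P.root '' Δ') := Submodule.subset_span ⟨i, hi, rfl⟩
  have hli : LinearIndependent ℤ ![P.root k, P.root i] := by
    by_contra h
    rcases eq_or_eq_two_smul_of_not_linearIndependent hΔ hk (hsub hi) h with rfl | h2
    · exact hk' hiS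
    · apply hk'
      show P.root k ∈ Submodule.span ℤ (P.root '' Δ')
      rw [h2]
      exact Submodule.smul_mem _ _ hiS
  refine ⟨reflectionPerm_mem_posOf hΔ hk (hsub hi) hli, fun hmem => hk' ?_⟩
  have h1 : P.root (P.reflectionPerm i k) ∈ Submodule.span ℤ (P.root '' Δ') := hmem
  rw [root_reflectionPerm'] at h1
  have h2 := Submodule.add_mem _ h1 (Submodule.smul_mem _ (P.pairing k i) hiS)
  rw [sub_add_cancel] at h2
  exact h2

include hΔ in
/-- The subgroup generated by the reflections in `Δ' ⊆ Δ` preserves the positive roots outside the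
span of `Δ'`. -/
lemma weylSub_preserves [Finite ι] {Δ' : Set ι} (hsub : Δ' ⊆ Δ) {g : P.Aut}
    (hg : g ∈ Subgroup.closure ((fun i : ι => RootPairing.Equiv.reflection P i) '' Δ')) :
    ∀ k ∈ posOf P Δ, k ∉ inSpan P Δ' → g • k ∈ posOf P Δ ∧ g • k ∉ inSpan P Δ' := by
  induction hg using Subgroup.closure_induction'' with
  | mem x hx =>
    obtain ⟨i, hi, rfl⟩ := hx
    intro k hk hk'
    exact reflectionPerm_preserves hΔ hsub hi hk hk'
  | inv_mem x hx =>
    obtain ⟨i, hi, rfl⟩ := hx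
    intro k hk hk'
    rw [RootPairing.Equiv.reflection_inv]
    exact reflectionPerm_preserves hΔ hsub hi hk hk'
  | one => intro k hk hk'; rw [one_smul]; exact ⟨hk, hk'⟩
  | mul x y _ _ hx hy =>
    intro k hk hk'
    rw [mul_smul]
    obtain ⟨h1, h2⟩ := hy k hk hk'
    exact hx _ h1 h2

end Simple

end Groth.Agent.Lib.Helper2.RootD
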