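import Groth.Agent.Lib.Helper2.RootD.Extend
import Groth.Agent.Lib.Helper2.RootD.Parabolic

/-!
# Root data: indivisible roots are conjugate to simple roots
-/

set_option autoImplicit false

open Set Function

namespace Groth.Agent.Lib.Helper2.RootD

open _root_.RootD

variable {ι M N : Type*} [AddCommGroup M] [AddCommGroup N]

section

variable {P : RootPairing ι ℤ M N} {Δ : Set ι} (hΔ : IsSimpleSys P Δ)

lemma ht_reflectionPerm (δ : Δ) (k : ι) :
    ht hΔ (P.reflectionPerm δ k) = ht hΔ k - P.pairing k δ := by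
  unfold ht
  rw [coef_reflectionPerm, map_sub, map_smul, coef_of_mem, htL_single, smul_eq_mul, mul_one]

omit hΔ in
lemma isIndiv_reflectionPerm (i : ι) {k : ι} (hk : IsIndiv P k) :
    IsIndiv P (P.reflectionPerm i k) := by
  intro j hj
  apply hk (P.reflectionPerm i j)
  rw [P.root_reflectionPerm, ← map_smul, hj, P.root_reflectionPerm, P.reflection_same]

omit hΔ in
lemma isIndiv_aut_smul (g : P.Aut) {k : ι} (hk : IsIndiv P k) : IsIndiv P (g • k) := by
  intro j hj
  apply hk (g⁻¹ • j)
  rw [root_smul, ← smul_comm, hj, root_smul, inv_smul_smul]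

omit hΔ in
lemma isIndiv_neg {k : ι} (hk : IsIndiv P k) : IsIndiv P (P.reflectionPerm k k) :=
  isIndiv_reflectionPerm k hk

include hΔ in
/-- A positive indivisible root is conjugate under the Weyl group to a simple root. -/
lemma exists_weyl_smul_mem_of_pos [Finite ι] :
    ∀ k ∈ posOf P Δ, IsIndiv P k → ∃ g : P.Aut, g ∈ P.weylGroup ∧ g • k ∈ Δ := by
  have key : ∀ n : ℕ, ∀ k ∈ posOf P Δ, IsIndiv P k → ht hΔ k ≤ n →
      ∃ g : P.Aut, g ∈ P.weylGroup ∧ g • k ∈ Δ := by
    intro n
    induction n with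
    | zero =>
      intro k hk _ h
      have := ht_pos_of_mem_posOf hΔ hk
      omega
    | succ n ih =>
      intro k hk hind h
      by_cases hkΔ : k ∈ Δ
      · exact ⟨1, one_mem _, by rw [one_smul]; exact hkΔ⟩
      · obtain ⟨δ, -, hp⟩ := exists_simple_pairing_pos hΔ hk
        have hli : LinearIndependent ℤ ![P.root k, P.root δ] := by
          by_contra hcon
          rcases eq_or_eq_two_smul_of_not_linearIndependent hΔ hk δ.2 hcon with h1 | h1
          · exact hkΔ (h1 ▸ δ.2)
          · exact hind δ h1.symm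
        have hpos := reflectionPerm_mem_posOf hΔ hk δ.2 hli
        have hht := ht_reflectionPerm hΔ δ k
        obtain ⟨g, hg, hgΔ⟩ := ih _ hpos (isIndiv_reflectionPerm _ hind)
          (by push_cast at h ⊢; omega)
        refine ⟨g * RootPairing.Equiv.reflection P δ,
          mul_mem hg (P.reflection_mem_weylGroup δ), ?_⟩
        rw [mul_smul, reflection_aut_smul]
        exact hgΔ
  intro k hk hind
  exact key (ht hΔ k).toNat k hk hind (Int.self_le_toNat _)

include hΔ in
/-- An indivisible root is conjugate under the Weyl group to a simple root. -/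
lemma exists_weyl_smul_mem_of_isIndiv [Finite ι] {k : ι} (hind : IsIndiv P k) :
    ∃ g : P.Aut, g ∈ P.weylGroup ∧ g • k ∈ Δ := by
  rcases mem_posOf_or_neg hΔ k with h | h
  · exact exists_weyl_smul_mem_of_pos hΔ k h hind
  · obtain ⟨g, hg, hgΔ⟩ := exists_weyl_smul_mem_of_pos hΔ _ h (isIndiv_neg hind)
    refine ⟨RootPairing.Equiv.reflection P (g • P.reflectionPerm k k) * g,
      mul_mem (P.reflection_mem_weylGroup _) hg, ?_⟩
    have h1 : g • k = P.reflectionPerm (g • P.reflectionPerm k k) (g • P.reflectionPerm k k) := by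
      rw [← smul_neg_index, reflectionPerm_neg]
    rw [mul_smul, reflection_aut_smul, h1, P.reflectionPerm_self]
    exact hgΔ

include hΔ in
/-- An indivisible root belongs to some simple system. -/
theorem exists_isSimpleSys_mem_of_isIndiv [Finite ι] {k : ι} (hind : IsIndiv P k) :
    ∃ Δ' : Set ι, IsSimpleSys P Δ' ∧ k ∈ Δ' := by
  obtain ⟨g, -, hgΔ⟩ := exists_weyl_smul_mem_of_isIndiv hΔ hind
  refine ⟨_, isSimpleSys_smul P g⁻¹ hΔ, ⟨g • k, hgΔ, inv_smul_smul g k⟩⟩

include hΔ in
/-- If the roots span the weight lattice, a simple root is an indivisible vector. -/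
lemma eq_one_or_neg_one_of_smul_eq_root (had : Submodule.span ℤ (Set.range P.root) = ⊤)
    {i : ι} (hi : i ∈ Δ) {m : M} {n : ℤ} (h : n • m = P.root i) : n = 1 ∨ n = -1 := by
  classical
  have hm : m ∈ spanOf P Δ := by
    rw [← span_range_root_eq_spanOf hΔ, had]; exact Submodule.mem_top
  have h1 : n • (⟨m, hm⟩ : spanOf P Δ) = basisOf hΔ.linInd ⟨i, hi⟩ :=
    Subtype.ext (h.trans (basisOf_apply hΔ.linInd ⟨i, hi⟩).symm)
  have h2 := congrArg (fun x => (basisOf hΔ.linInd).repr x ⟨i, hi⟩) h1
  simp only [map_smul, Finsupp.smul_apply, Module.Basis.repr_self, Finsupp.single_eq_same,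
    smul_eq_mul] at h2
  exact Int.eq_one_or_neg_one_of_mul_eq_one h2

end

/-- In an adjoint root datum every indivisible root is an indivisible vector. -/
theorem eq_one_or_neg_one_of_adjoint (P : RootPairing ι ℤ M N) [Finite ι]
    (had : Submodule.span ℤ (Set.range P.root) = ⊤) (i : ι) (hind : IsIndiv P i) (m : M) (n : ℤ)
    (h : n • m = P.root i) : n = 1 ∨ n = -1 := by
  obtain ⟨Δ₀, hΔ₀⟩ := exists_isSimpleSys P
  obtain ⟨Δ, hΔ, hi⟩ := exists_isSimpleSys_mem_of_isIndiv hΔ₀ hind
  exact eq_one_or_neg_one_of_smul_eq_root hΔ had hi h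

end Groth.Agent.Lib.Helper2.RootD
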