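import Groth.Agent.Lib.Helper2.RootD.Aut
import Mathlib.LinearAlgebra.FreeModule.Finite.Quotient
import Mathlib.LinearAlgebra.RootSystem.Basic

/-!
# Root data: morphisms of semisimple root data are isogenies
-/

set_option autoImplicit false

open Set Function

namespace Groth.Agent.Lib.Helper2.RootD

open _root_.RootD

lemma exists_nsmul_mem_of_finrank_eq {M : Type*} [AddCommGroup M] [Module.Finite ℤ M]
    [Module.Free ℤ M] (S : Submodule ℤ M) (h : Module.finrank ℤ S = Module.finrank ℤ M) (x : M) :
    ∃ n : ℕ, 0 < n ∧ n • x ∈ S := by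
  have hfin : Finite (M ⧸ S) := Submodule.finiteQuotientOfFreeOfRankEq S h
  obtain ⟨n, hn, hx⟩ := isOfFinAddOrder_iff_nsmul_eq_zero.mp
    (isOfFinAddOrder_of_finite (Submodule.Quotient.mk (p := S) x))
  refine ⟨n, hn, ?_⟩
  rw [← Submodule.Quotient.mk_smul, Submodule.Quotient.mk_eq_zero] at hx
  exact hx

variable {ι M N ι' M' N' : Type*} [AddCommGroup M] [AddCommGroup N] [AddCommGroup M']
  [AddCommGroup N']

lemma hom_toLinearMap {P : RootPairing ι ℤ M N} {P' : RootPairing ι' ℤ M' N'}
    (f : RootPairing.Hom P' P) (m' : M') (y : N) :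
    P.toLinearMap (f.weightMap m') y = P'.toLinearMap m' (f.coweightMap y) :=
  LinearMap.congr_fun (RootPairing.Hom.weight_coweight_transpose_apply P' P y f) m'

/-- A morphism between semisimple root data is an isogeny. -/
theorem hom_injective_finite_coker (P : RootPairing ι ℤ M N) (P' : RootPairing ι' ℤ M' N')
    [Finite ι] [Finite ι']
    [Module.Finite ℤ M] [Module.Finite ℤ N] [Module.Finite ℤ M'] [Module.Finite ℤ N']
    (hss : Module.finrank ℤ (Submodule.span ℤ (Set.range P.root)) = Module.finrank ℤ M)
    (hss' : Module.finrank ℤ (Submodule.span ℤ (Set.range P'.root)) = Module.finrank ℤ M')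
    (f : RootPairing.Hom P' P) :
    Function.Injective f.weightMap ∧ Finite (M ⧸ LinearMap.range f.weightMap) := by
  have hM' : Module.IsReflexive ℤ M' := .of_isPerfPair P'.toLinearMap
  have hM : Module.IsReflexive ℤ M := .of_isPerfPair P.toLinearMap
  have hMt' := isAddTorsionFree P'
  constructor
  · rw [injective_iff_map_eq_zero]
    intro x hx
    obtain ⟨n, hn, hmem⟩ := exists_nsmul_mem_of_finrank_eq _ hss' x
    have h0 : n • x = 0 := by
      apply eq_zero_of_mem_rootSpan_of_coroot' P' hmem
      intro i'
      have h1 : P'.coroot i' = f.coweightMap (P.coroot (f.indexEquiv i')) := by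
        rw [RootPairing.Hom.coroot_coweightMap_apply, Equiv.symm_apply_apply]
      show P'.toLinearMap (n • x) (P'.coroot i') = 0
      rw [h1, ← hom_toLinearMap, map_nsmul, hx, smul_zero, map_zero, LinearMap.zero_apply]
    rcases smul_eq_zero.mp h0 with h | h
    · omega
    · exact h
  · have hle : Submodule.span ℤ (Set.range P.root) ≤ LinearMap.range f.weightMap := by
      rw [Submodule.span_le]
      rintro _ ⟨i, rfl⟩
      refine ⟨P'.root (f.indexEquiv.symm i), ?_⟩
      rw [RootPairing.Hom.root_weightMap_apply, Equiv.apply_symm_apply]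
    have := Submodule.finiteQuotientOfFreeOfRankEq _ hss
    exact Finite.of_surjective _ (Submodule.factor_surjective hle)

/-- If a linear map and its transpose induce bijections on roots and coroots, the two bijections
correspond. -/
theorem transpose_coroot_eq (P : RootPairing ι ℤ M N) (P' : RootPairing ι' ℤ M' N')
    [Finite ι] [Finite ι']
    (f : M' →ₗ[ℤ] M) (g : N →ₗ[ℤ] N')
    (hfg : ∀ (m' : M') (n : N), P.toLinearMap (f m') n = P'.toLinearMap m' (g n))
    (e : ι' ≃ ι) (he : ∀ i' : ι', f (P'.root i') = P.root (e i'))
    (e' : ι ≃ ι') (he' : ∀ i : ι, g (P.coroot i) = P'.coroot (e' i)) :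
    ∀ i' : ι', g (P.coroot (e i')) = P'.coroot i' := by
  have hM' : Module.IsReflexive ℤ M' := .of_isPerfPair P'.toLinearMap
  have hMt' := isAddTorsionFree P'
  -- `f` is injective on the root lattice
  have hinj : ∀ x ∈ Submodule.span ℤ (Set.range P'.root), f x = 0 → x = 0 := by
    intro x hx hfx
    apply eq_zero_of_mem_rootSpan_of_coroot' P' hx
    intro j'
    have h1 : P'.coroot j' = g (P.coroot (e'.symm j')) := by
      rw [he', Equiv.apply_symm_apply]
    show P'.toLinearMap x (P'.coroot j') = 0
    rw [h1, ← hfg, hfx, map_zero, LinearMap.zero_apply]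
  intro i'
  rw [he']
  apply P'.injOn_dualMap_subtype_span_root_coroot (Set.mem_range_self _) (Set.mem_range_self _)
  simp only [LinearMap.coe_comp, Function.comp_apply]
  have hβ : P'.coroot (e' (e i')) = g (P.coroot (e i')) := (he' _).symm
  apply Module.Dual.eq_of_preReflection_mapsTo' (Set.finite_range P'.root) (x := P'.root i')
  · exact Submodule.subset_span (Set.mem_range_self i')
  · show P'.toLinearMap (P'.root i') (P'.coroot (e' (e i'))) = 2
    rw [hβ, ← hfg, he, P.root_coroot_eq_pairing, P.pairing_same]
  · rintro _ ⟨j', rfl⟩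
    refine ⟨e.symm (P.reflectionPerm (e i') (e j')), ?_⟩
    have hmem : P'.root (e.symm (P.reflectionPerm (e i') (e j'))) -
        Module.preReflection (P'.root i') (P'.toLinearMap.flip (P'.coroot (e' (e i'))))
          (P'.root j') ∈ Submodule.span ℤ (Set.range P'.root) := by
      apply Submodule.sub_mem
      · exact Submodule.subset_span (Set.mem_range_self _)
      · rw [Module.preReflection_apply]
        apply Submodule.sub_mem
        · exact Submodule.subset_span (Set.mem_range_self _)
        · exact Submodule.smul_mem _ _ (Submodule.subset_span (Set.mem_range_self _))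
    have h0 := hinj _ hmem (by
      rw [map_sub, he, Equiv.apply_symm_apply, Module.preReflection_apply, map_sub, map_smul, he, he,
        LinearMap.flip_apply, hβ, ← hfg, he, P.root_reflectionPerm, P.reflection_apply,
        show P.coroot' (e i') (P.root (e j')) = P.toLinearMap (P.root (e j')) (P.coroot (e i'))
          from rfl]
      abel)
    exact sub_eq_zero.mp h0
  · exact P'.coroot_root_two i'
  · exact P'.mapsTo_reflection_root i'

end Groth.Agent.Lib.Helper2.RootD
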