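import Groth.Agent.Lib.Helper2.RootD.Subspace
import Groth.Agent.Lib.Helper2.RootD.Weyl
import Groth.Agent.Lib.Helper2.RootD.Extend
import Mathlib.Algebra.Order.Monoid.Prod

/-!
# Root data: positive systems from homomorphisms to ordered groups, and simple systems adapted to a
pair of roots
-/

set_option autoImplicit false

open Set Function

namespace Groth.Agent.Lib.Helper2.RootD

open _root_.RootD

variable {ι M N : Type*} [AddCommGroup M] [AddCommGroup N]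

section PosHom

variable {P : RootPairing ι ℤ M N} {Δ₀ : Set ι} (hΔ₀ : IsSimpleSys P Δ₀)
  {G : Type*} [AddCommGroup G] [LinearOrder G] [IsOrderedAddMonoid G] (φ : spanOf P Δ₀ →+ G)

include hΔ₀ in
lemma natSpan_le_spanOf_simple (S : Set ι) : ∀ x ∈ natSpan P S, x ∈ spanOf P Δ₀ := by
  intro x hx
  induction hx using AddSubmonoid.closure_induction with
  | mem y hy => obtain ⟨i, _, rfl⟩ := hy; exact root_mem_spanOf hΔ₀ i
  | zero => exact Submodule.zero_mem _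
  | add y z _ _ hy hz => exact Submodule.add_mem _ hy hz

lemma hom_nonneg_of_mem_natSpan {S : Set ι} (hS : ∀ k ∈ S, 0 < φ (rootL hΔ₀ k)) :
    ∀ x ∈ natSpan P S, ∀ h : x ∈ spanOf P Δ₀, 0 ≤ φ ⟨x, h⟩ := by
  intro x hx
  induction hx using AddSubmonoid.closure_induction with
  | mem y hy =>
    obtain ⟨k, hk, rfl⟩ := hy
    intro h
    exact (hS k hk).le
  | zero =>
    intro h
    have : (⟨0, h⟩ : spanOf P Δ₀) = 0 := rfl
    rw [this, map_zero]
  | add y z hy hz ihy ihz =>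
    intro h
    have hy' := natSpan_le_spanOf_simple hΔ₀ S y hy
    have hz' := natSpan_le_spanOf_simple hΔ₀ S z hz
    have : (⟨y + z, h⟩ : spanOf P Δ₀) = ⟨y, hy'⟩ + ⟨z, hz'⟩ := rfl
    rw [this, map_add]
    exact add_nonneg (ihy hy') (ihz hz')

/-- A homomorphism from the root lattice to a linearly ordered group which does not vanish on any
root defines a system of positive roots. -/
lemma isPosSys_of_hom (hφ : ∀ k, φ (rootL hΔ₀ k) ≠ 0) :
    IsPosSys P {k | 0 < φ (rootL hΔ₀ k)} where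
  disjoint := fun i hi hi' => by
    simp only [Set.mem_ofPred_eq, rootL_neg, map_neg] at hi hi'
    exact lt_asymm hi (neg_pos.mp hi')
  cover := fun i => by
    rcases lt_or_gt_of_ne (hφ i) with h | h
    · right
      show 0 < φ (rootL hΔ₀ _)
      rw [rootL_neg, map_neg]
      exact neg_pos.mpr h
    · left; exact h
  sat := fun k n hn hmem => by
    by_contra hk
    have hneg : φ (rootL hΔ₀ k) < 0 := lt_of_le_of_ne (not_lt.mp hk) (hφ k)
    have hmem' : n • P.root k ∈ spanOf P Δ₀ := nsmul_mem (root_mem_spanOf hΔ₀ k) n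
    have h1 := hom_nonneg_of_mem_natSpan hΔ₀ φ (S := {k | 0 < φ (rootL hΔ₀ k)})
      (fun k hk => hk) _ hmem hmem'
    have h2 : (⟨n • P.root k, hmem'⟩ : spanOf P Δ₀) = n • rootL hΔ₀ k := rfl
    rw [h2, map_nsmul] at h1
    exact absurd h1 (not_le.mpr (nsmul_neg hneg hn.ne'))

end PosHom

section Sat

variable {P : RootPairing ι ℤ M N}

/-- The saturation of a subgroup of `M`. -/
def satOf (A : Submodule ℤ M) : Submodule ℤ M where
  carrier := {x | ∃ n : ℕ, 0 < n ∧ n • x ∈ A}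
  add_mem' := by
    rintro x y ⟨n, hn, hx⟩ ⟨m, hm, hy⟩
    refine ⟨n * m, Nat.mul_pos hn hm, ?_⟩
    rw [smul_add]
    refine A.add_mem ?_ ?_
    · rw [mul_comm, mul_smul]; exact A.smul_of_tower_mem m hx
    · rw [mul_smul]; exact A.smul_of_tower_mem n hy
  zero_mem' := ⟨1, one_pos, by simp⟩
  smul_mem' := by
    rintro c x ⟨n, hn, hx⟩
    exact ⟨n, hn, by rw [smul_comm]; exact A.smul_mem c hx⟩

lemma mem_satOf {A : Submodule ℤ M} {x : M} : x ∈ satOf A ↔ ∃ n : ℕ, 0 < n ∧ n • x ∈ A := Iff.rfl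

lemma le_satOf (A : Submodule ℤ M) : A ≤ satOf A := fun x hx => ⟨1, one_pos, by simpa using hx⟩

lemma hsat_satOf (A : Submodule ℤ M) (k : ι)
    (h : ∃ n : ℕ, 0 < n ∧ n • P.root k ∈
      Submodule.span ℤ (P.root '' {l | P.root l ∈ satOf A})) :
    k ∈ {l | P.root l ∈ satOf A} := by
  obtain ⟨n, hn, h⟩ := h
  have hle : Submodule.span ℤ (P.root '' {l | P.root l ∈ satOf A}) ≤ satOf A := by
    rw [Submodule.span_le]
    rintro _ ⟨l, hl, rfl⟩
    exact hl
  obtain ⟨m, hm, h2⟩ := hle h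
  exact ⟨m * n, Nat.mul_pos hm hn, by rw [mul_smul]; exact h2⟩

end Sat

section Coef

variable {P : RootPairing ι ℤ M N} {Δ₀ Δ : Set ι} (hΔ₀ : IsSimpleSys P Δ₀) (hΔ : IsSimpleSys P Δ)

lemma hom_root_eq_sum (ψ : spanOf P Δ₀ →+ ℚ) (l : ι) :
    ψ (rootL hΔ₀ l) = (coef hΔ l).sum fun δ a => (a : ℚ) * ψ (rootL hΔ₀ δ) := by
  have h1 : rootL hΔ₀ l = (coef hΔ l).sum fun δ a => a • rootL hΔ₀ (δ : ι) := by
    apply Subtype.ext
    rw [coe_rootL, root_eq_sum hΔ l, Finsupp.sum, Finsupp.sum, Submodule.coe_sum]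
    rfl
  rw [h1, Finsupp.sum, map_sum, Finsupp.sum]
  refine Finset.sum_congr rfl fun δ _ => ?_
  rw [map_zsmul, zsmul_eq_mul]

/-- If `ψ` is non-negative on the simple roots in the support of the positive root `l` and vanishes
at `l`, it vanishes on the support. -/
lemma hom_eq_zero_of_support (ψ : spanOf P Δ₀ →+ ℚ) {l : ι} (hl : l ∈ posOf P Δ)
    (h0 : ψ (rootL hΔ₀ l) = 0)
    (hnn : ∀ δ : Δ, coef hΔ l δ ≠ 0 → 0 ≤ ψ (rootL hΔ₀ δ)) :
    ∀ δ : Δ, coef hΔ l δ ≠ 0 → ψ (rootL hΔ₀ δ) = 0 := by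
  intro δ hδ
  rw [hom_root_eq_sum hΔ₀ hΔ, Finsupp.sum] at h0
  have hterm : ∀ δ' ∈ (coef hΔ l).support, 0 ≤ ((coef hΔ l δ' : ℤ) : ℚ) * ψ (rootL hΔ₀ δ') := by
    intro δ' hδ'
    have h1 : (0 : ℚ) ≤ ((coef hΔ l δ' : ℤ) : ℚ) := by
      exact_mod_cast coef_nonneg_of_mem_posOf hΔ hl δ'
    exact mul_nonneg h1 (hnn δ' (Finsupp.mem_support_iff.mp hδ'))
  have h2 := (Finset.sum_eq_zero_iff_of_nonneg hterm).mp h0 δ (Finsupp.mem_support_iff.mpr hδ)
  rcases mul_eq_zero.mp h2 with h | h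
  · exact absurd (by exact_mod_cast h) hδ
  · exact h

/-- Transport of an integral linear relation to coefficients. -/
lemma coef_rel {a b c : ι} {n x y : ℤ} (h : n • P.root a = x • P.root b + y • P.root c) :
    n • coef hΔ a = x • coef hΔ b + y • coef hΔ c := by
  have h1 : n • rootL hΔ a = x • rootL hΔ b + y • rootL hΔ c := Subtype.ext h
  have := congrArg (basisOf hΔ.linInd).repr h1
  rw [map_add, map_smul, map_smul, map_smul] at this
  exact this

lemma coef_rel' {a b : ι} {n x : ℤ} (h : n • P.root a = x • P.root b) :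
    n • coef hΔ a = x • coef hΔ b := by
  have h1 : n • rootL hΔ a = x • rootL hΔ b := Subtype.ext h
  have := congrArg (basisOf hΔ.linInd).repr h1
  rw [map_smul, map_smul] at this
  exact this

end Coef

section Pair

/-- Given an indivisible root `α` and a root `γ` not proportional to it, there is a system of simple
roots containing `α` and a simple root `β` of it with `γ = aα + bβ`, `a, b ∈ ℕ`. -/
theorem exists_simpleSys_pair (P : RootPairing ι ℤ M N) [Finite ι] (i k : ι) (hα : IsIndiv P i)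
    (hli : LinearIndependent ℤ ![P.root i, P.root k]) :
    ∃ Δ : Set ι, IsSimpleSys P Δ ∧ i ∈ Δ ∧
      ∃ j ∈ Δ, ∃ a b : ℕ, P.root k = a • P.root i + b • P.root j := by
  classical
  have hM := isAddTorsionFree P
  obtain ⟨Δ₀, hΔ₀⟩ := exists_isSimpleSys P
  set A₁ : Submodule ℤ M := Submodule.span ℤ {P.root i, P.root k} with hA₁
  set A₂ : Submodule ℤ M := Submodule.span ℤ {P.root i} with hA₂
  obtain ⟨f₀, hf0, hf0ne⟩ := exists_addHom_vanishing hΔ₀ {l | P.root l ∈ satOf A₁}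
    (hsat_satOf A₁)
  obtain ⟨g', hg0, hg0ne⟩ := exists_addHom_vanishing hΔ₀ {l | P.root l ∈ satOf A₂}
    (hsat_satOf A₂)
  have hli' := LinearIndependent.pair_iff.mp hli
  -- `γ` is not in the saturation of `ℤα`
  have hk2 : k ∉ {l | P.root l ∈ satOf A₂} := by
    rintro ⟨n, hn, h⟩
    obtain ⟨c, hc⟩ := Submodule.mem_span_singleton.mp h
    have := hli' c (-(n : ℤ)) (by rw [hc, neg_smul, natCast_zsmul, add_neg_cancel])
    omega
  obtain ⟨g₀, hg0', hg0ne', hg0k⟩ : ∃ g₀ : spanOf P Δ₀ →+ ℚ,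
      (∀ l, P.root l ∈ satOf A₂ → g₀ (rootL hΔ₀ l) = 0) ∧
      (∀ l, P.root l ∉ satOf A₂ → g₀ (rootL hΔ₀ l) ≠ 0) ∧ 0 < g₀ (rootL hΔ₀ k) := by
    rcases lt_or_gt_of_ne (hg0ne k hk2) with h | h
    · refine ⟨-g', fun l hl => ?_, fun l hl => ?_, ?_⟩
      · rw [AddMonoidHom.neg_apply, hg0 l hl, neg_zero]
      · rw [AddMonoidHom.neg_apply, neg_ne_zero]; exact hg0ne l hl
      · rw [AddMonoidHom.neg_apply]; exact neg_pos.mpr h
    · exact ⟨g', hg0, hg0ne, h⟩
  let g₁ : spanOf P Δ₀ →+ ℚ := (Int.castAddHom ℚ).comp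
    ((P.coroot' i).toAddMonoidHom.comp (spanOf P Δ₀).subtype.toAddMonoidHom)
  have hg1 : ∀ l, g₁ (rootL hΔ₀ l) = P.pairing l i := fun l => by
    show ((P.coroot' i (P.root l) : ℤ) : ℚ) = _
    rw [RootPairing.root_coroot'_eq_pairing]
  let φ : spanOf P Δ₀ →+ ℚ ×ₗ ℚ ×ₗ ℚ :=
    { toFun := fun x => toLex (f₀ x, toLex (g₀ x, g₁ x))
      map_zero' := by rw [map_zero, map_zero, map_zero]; rfl
      map_add' := fun x y => by rw [map_add, map_add, map_add]; rfl }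
  have hpos : ∀ x, 0 < φ x ↔
      0 < f₀ x ∨ (f₀ x = 0 ∧ (0 < g₀ x ∨ (g₀ x = 0 ∧ 0 < g₁ x))) := by
    intro x
    show toLex ((0 : ℚ), toLex ((0 : ℚ), (0 : ℚ))) < toLex (f₀ x, toLex (g₀ x, g₁ x)) ↔ _
    rw [Prod.Lex.toLex_lt_toLex]
    simp only [Prod.Lex.toLex_lt_toLex]
    simp only [eq_comm]
  have hzero : ∀ x, φ x = 0 ↔ f₀ x = 0 ∧ g₀ x = 0 ∧ g₁ x = 0 := by
    intro x
    show toLex (f₀ x, toLex (g₀ x, g₁ x)) = toLex ((0 : ℚ), toLex ((0 : ℚ), (0 : ℚ))) ↔ _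
    simp only [EmbeddingLike.apply_eq_iff_eq, Prod.mk.injEq]
  -- membership facts
  have hi1 : P.root i ∈ satOf A₁ := le_satOf _ (Submodule.subset_span (by simp))
  have hk1 : P.root k ∈ satOf A₁ := le_satOf _ (Submodule.subset_span (by simp))
  have hi2 : P.root i ∈ satOf A₂ := le_satOf _ (Submodule.subset_span (by simp))
  have hf0' : ∀ l, f₀ (rootL hΔ₀ l) = 0 → P.root l ∈ satOf A₁ := fun l h => by
    by_contra hl; exact hf0ne l hl h
  have hg0'' : ∀ l, g₀ (rootL hΔ₀ l) = 0 → P.root l ∈ satOf A₂ := fun l h => by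
    by_contra hl; exact hg0ne' l hl h
  -- regularity
  have hreg : ∀ l, φ (rootL hΔ₀ l) ≠ 0 := by
    intro l h0
    obtain ⟨-, h2, h3⟩ := (hzero _).mp h0
    obtain ⟨n, hn, hmem⟩ := hg0'' l h2
    obtain ⟨c, hc⟩ := Submodule.mem_span_singleton.mp hmem
    rw [hg1] at h3
    have h3' : P.pairing l i = 0 := by exact_mod_cast h3
    have h4 := congrArg (P.coroot' i) hc
    rw [map_smul, map_nsmul, RootPairing.root_coroot'_eq_pairing,
      RootPairing.root_coroot'_eq_pairing, h3', RootPairing.pairing_same, smul_zero,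
      smul_eq_mul] at h4
    have hc0 : c = 0 := by omega
    rw [hc0, zero_smul] at hc
    have : P.root l = 0 := by
      have h5 : n • P.root l = n • (0 : M) := by rw [← hc, smul_zero]
      exact nsmul_right_injective hn.ne' h5
    exact P.ne_zero l this
  have hS := isPosSys_of_hom hΔ₀ φ hreg
  obtain ⟨Δ, hΔ, hSΔ⟩ := exists_isSimpleSys_eq_posOf P hS
  have hmemS : ∀ l, l ∈ posOf P Δ ↔ 0 < φ (rootL hΔ₀ l) := fun l => by rw [← hSΔ]; rfl
  -- positivity on simple roots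
  have hΔpos : ∀ δ : Δ, 0 < φ (rootL hΔ₀ δ) := fun δ =>
    (hmemS δ).mp (mem_posOf_of_mem δ.2)
  have hΔf : ∀ δ : Δ, 0 ≤ f₀ (rootL hΔ₀ δ) := fun δ => by
    rcases (hpos _).mp (hΔpos δ) with h | h
    · exact h.le
    · exact h.1.ge
  have hΔg : ∀ δ : Δ, f₀ (rootL hΔ₀ δ) = 0 → 0 ≤ g₀ (rootL hΔ₀ δ) := fun δ h0 => by
    rcases (hpos _).mp (hΔpos δ) with h | h
    · exact absurd h0 h.ne'
    · rcases h.2 with h' | h'
      · exact h'.le
      · exact h'.1.ge
  -- `α` is positive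
  have hiS : i ∈ posOf P Δ := by
    rw [hmemS, hpos]
    right
    refine ⟨hf0 i hi1, Or.inr ⟨hg0' i hi2, ?_⟩⟩
    rw [hg1, RootPairing.pairing_same]; norm_num
  have hsf : ∀ δ : Δ, coef hΔ i δ ≠ 0 → f₀ (rootL hΔ₀ δ) = 0 :=
    hom_eq_zero_of_support hΔ₀ hΔ f₀ hiS (hf0 i hi1) (fun δ _ => hΔf δ)
  have hsg : ∀ δ : Δ, coef hΔ i δ ≠ 0 → g₀ (rootL hΔ₀ δ) = 0 :=
    hom_eq_zero_of_support hΔ₀ hΔ g₀ hiS (hg0' i hi2) (fun δ hδ => hΔg δ (hsf δ hδ))
  obtain ⟨δ₀, hδ₀⟩ : ∃ δ₀ : Δ, coef hΔ i δ₀ ≠ 0 := by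
    by_contra h
    push Not at h
    exact coef_ne_zero hΔ i (Finsupp.ext h)
  have hiΔ : i ∈ Δ := by
    obtain ⟨n, hn, hmem⟩ := hg0'' δ₀ (hsg δ₀ hδ₀)
    obtain ⟨c, hc⟩ := Submodule.mem_span_singleton.mp hmem
    have hrel := coef_rel' hΔ (a := (δ₀ : ι)) (b := i) (n := (n : ℤ)) (x := c)
      (by rw [natCast_zsmul]; exact hc.symm)
    rw [coef_of_mem hΔ δ₀] at hrel
    have hc0 : c ≠ 0 := by
      rintro rfl
      have := congrArg (fun v => v δ₀) hrel
      simp only [Finsupp.smul_apply, Finsupp.single_eq_same, smul_eq_mul, zero_mul,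
        mul_one] at this
      omega
    have h0 : ∀ δ : Δ, δ ≠ δ₀ → coef hΔ i δ = 0 := by
      intro δ hne
      have := congrArg (fun v => v δ) hrel
      simp only [Finsupp.smul_apply, Finsupp.single_apply, if_neg hne.symm,
        smul_eq_mul, mul_zero] at this
      rcases mul_eq_zero.mp this.symm with h | h
      · exact absurd h hc0
      · exact h
    have h1 : P.root i = coef hΔ i δ₀ • P.root (δ₀ : ι) :=
      root_eq_smul_of_coef_eq_zero hΔ δ₀.2 h0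
    have hcases := smul_root_cases P h1
    have hnn := coef_nonneg_of_mem_posOf hΔ hiS δ₀
    have hcoef : coef hΔ i δ₀ = 1 := by
      rcases hcases with h | h | h | h
      · exact h
      · omega
      · exfalso; rw [h] at h1; exact hα δ₀ h1.symm
      · omega
    rw [hcoef, one_smul] at h1
    have : i = δ₀ := P.root.injective h1
    rw [this]; exact δ₀.2
  -- `γ` is positive
  have hkS : k ∈ posOf P Δ := by
    rw [hmemS, hpos]
    right
    exact ⟨hf0 k hk1, Or.inl hg0k⟩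
  have hkf : ∀ δ : Δ, coef hΔ k δ ≠ 0 → f₀ (rootL hΔ₀ δ) = 0 :=
    hom_eq_zero_of_support hΔ₀ hΔ f₀ hkS (hf0 k hk1) (fun δ _ => hΔf δ)
  obtain ⟨β, hβi, hβ⟩ : ∃ β : Δ, β ≠ ⟨i, hiΔ⟩ ∧ coef hΔ k β ≠ 0 := by
    by_contra h
    push Not at h
    have h1 := root_eq_smul_of_coef_eq_zero hΔ hiΔ (k := k) h
    have := hli' (coef hΔ k ⟨i, hiΔ⟩) (-1) (by rw [← h1]; simp)
    omega
  obtain ⟨n, hn, hmem⟩ := hf0' β (hkf β hβ)
  obtain ⟨x, y, hxy⟩ := Submodule.mem_span_pair.mp hmem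
  have hrel := coef_rel hΔ (a := (β : ι)) (b := i) (c := k) (n := (n : ℤ)) (x := x) (y := y)
    (by rw [natCast_zsmul]; exact hxy.symm)
  rw [coef_of_mem hΔ β, show coef hΔ i = Finsupp.single ⟨i, hiΔ⟩ 1 from
    coef_of_mem hΔ ⟨i, hiΔ⟩] at hrel
  have hsupp : ∀ δ : Δ, δ ≠ ⟨i, hiΔ⟩ → δ ≠ β → coef hΔ k δ = 0 := by
    intro δ h1 h2
    by_contra hne
    have e1 := congrArg (fun v => v δ) hrel
    simp only [Finsupp.smul_apply, Finsupp.add_apply, Finsupp.single_apply, if_neg h1.symm,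
      if_neg h2.symm, smul_eq_mul, zero_add, mul_zero] at e1
    have hy : y = 0 := by
      rcases mul_eq_zero.mp e1.symm with h | h
      · exact h
      · exact absurd h hne
    have e2 := congrArg (fun v => v β) hrel
    simp only [Finsupp.smul_apply, Finsupp.add_apply, Finsupp.single_apply, if_neg hβi.symm,
      if_true, hy, smul_eq_mul, add_zero, mul_one, zero_mul, mul_zero] at e2
    omega
  refine ⟨Δ, hΔ, hiΔ, β, β.2, (coef hΔ k ⟨i, hiΔ⟩).toNat, (coef hΔ k β).toNat, ?_⟩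
  have hsum := root_eq_sum hΔ k
  have hsub : (coef hΔ k).support ⊆ {⟨i, hiΔ⟩, β} := by
    intro δ hδ
    rw [Finset.mem_insert, Finset.mem_singleton]
    by_contra hcon
    push Not at hcon
    exact Finsupp.mem_support_iff.mp hδ (hsupp δ hcon.1 hcon.2)
  rw [Finsupp.sum_of_support_subset _ hsub _ (by simp), Finset.sum_pair hβi.symm] at hsum
  rw [hsum]
  congr 1 <;>
    rw [← natCast_zsmul, Int.toNat_of_nonneg (coef_nonneg_of_mem_posOf hΔ hkS _)]

end Pair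

end Groth.Agent.Lib.Helper2.RootD
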