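import Groth.Agent.Lib.Helper2.RootD.Simple
import Mathlib.LinearAlgebra.RootSystem.Finite.Nondegenerate

set_option autoImplicit false
open Module

namespace Groth.Agent.Lib.Helper2.RootD

variable {ι M N : Type*} [AddCommGroup M] [AddCommGroup N]

lemma ker_polarization_eq (P : RootPairing ι ℤ M N) [Fintype ι] :
    LinearMap.ker P.Polarization = (⨅ i : ι, LinearMap.ker (P.coroot' i) : Submodule ℤ M) := by
  ext x
  simp only [LinearMap.mem_ker, Submodule.mem_iInf]
  constructor
  · intro hx
    have h1 : P.RootForm x x = 0 := by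
      rw [(P.polarization_apply_eq_zero_iff x).mp hx]; rfl
    rw [P.rootForm_apply_apply] at h1
    intro i
    have := (Finset.sum_eq_zero_iff_of_nonneg (fun i _ => mul_self_nonneg (P.coroot' i x))).mp h1 i
      (Finset.mem_univ i)
    exact mul_self_eq_zero.mp this
  · intro hx
    rw [P.Polarization_apply]
    exact Finset.sum_eq_zero fun i _ => by rw [hx i, zero_smul]

theorem finrank_ker_add (P : RootPairing ι ℤ M N) [Finite ι] [Module.Finite ℤ M]
    [Module.Finite ℤ N] :
    Module.finrank ℤ (⨅ i : ι, LinearMap.ker (P.coroot' i) : Submodule ℤ M) +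
      Module.finrank ℤ (P.corootSpan ℤ) = Module.finrank ℤ M := by
  classical
  let _ := Fintype.ofFinite ι
  rw [← ker_polarization_eq P]
  have h1 := Submodule.finrank_quotient_add_finrank (LinearMap.ker P.Polarization)
  rw [P.Polarization.quotKerEquivRange.finrank_eq] at h1
  have hle2 : LinearMap.range P.Polarization ≤ P.corootSpan ℤ := by
    rintro _ ⟨m, rfl⟩
    rw [P.Polarization_apply]
    exact Submodule.sum_mem _ fun i _ =>
      Submodule.smul_mem _ _ (Submodule.subset_span (Set.mem_range_self i))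
  have hle1 : (P.rootSpan ℤ).map P.Polarization ≤ LinearMap.range P.Polarization :=
    LinearMap.map_le_range
  have e1 := Submodule.finrank_mono hle1
  have e2 := Submodule.finrank_mono hle2
  rw [P.finrank_rootSpan_map_polarization_eq_finrank_corootSpan] at e1
  omega

end Groth.Agent.Lib.Helper2.RootD

namespace Groth.Agent.Lib.Helper2.RootD
variable {ι M N : Type*} [AddCommGroup M] [AddCommGroup N]

theorem finrank_orth (P : RootPairing ι ℤ M N) [Finite ι] [Module.Finite ℤ M] [Module.Finite ℤ N] :
    (Module.finrank ℤ (⨅ i : ι, LinearMap.ker (P.coroot' i) : Submodule ℤ M) +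
        Module.finrank ℤ (Submodule.span ℤ (Set.range P.root)) = Module.finrank ℤ M) ∧
      (Module.finrank ℤ (⨅ i : ι, LinearMap.ker (P.root' i) : Submodule ℤ N) +
        Module.finrank ℤ (Submodule.span ℤ (Set.range P.root)) = Module.finrank ℤ M) ∧
      (Module.finrank ℤ (Submodule.span ℤ (Set.range P.root)) = Module.finrank ℤ M ↔
        (⨅ i : ι, LinearMap.ker (P.coroot' i) : Submodule ℤ M) = ⊥) ∧
      (Module.finrank ℤ (Submodule.span ℤ (Set.range P.root)) = Module.finrank ℤ M ↔
        (⨅ i : ι, LinearMap.ker (P.root' i) : Submodule ℤ N) = ⊥) := by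
  classical
  let _ := Fintype.ofFinite ι
  have hr : Module.finrank ℤ (P.corootSpan ℤ) = Module.finrank ℤ (P.rootSpan ℤ) :=
    P.finrank_corootSpan_eq'
  have hA := finrank_ker_add P
  have hB : Module.finrank ℤ (⨅ i : ι, LinearMap.ker (P.root' i) : Submodule ℤ N) +
      Module.finrank ℤ (P.rootSpan ℤ) = Module.finrank ℤ N := finrank_ker_add P.flip
  have : Module.IsReflexive ℤ M := .of_isPerfPair P.toLinearMap
  have : Module.IsReflexive ℤ N := .of_isPerfPair P.flip.toLinearMap
  have hMN : Module.finrank ℤ M = Module.finrank ℤ N := Module.finrank_of_isPerfPair P.toLinearMap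
  rw [hr] at hA
  rw [← hMN] at hB
  refine ⟨hA, hB, ?_, ?_⟩
  · rw [← Submodule.finrank_eq_zero (R := ℤ)]
    change Module.finrank ℤ (P.rootSpan ℤ) = _ ↔ _
    omega
  · rw [← Submodule.finrank_eq_zero (R := ℤ)]
    change Module.finrank ℤ (P.rootSpan ℤ) = _ ↔ _
    omega

end Groth.Agent.Lib.Helper2.RootD
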