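import Groth.Agent.Lib.Helper2.RootD.Simple

/-!
# Root data: unique same-sign decompositions give a simple system
-/

set_option autoImplicit false

open Set Function

namespace Groth.Agent.Lib.Helper2.RootD

open _root_.RootD

variable {ι M N : Type*} [AddCommGroup M] [AddCommGroup N]

section

variable (P : RootPairing ι ℤ M N) (Δ : Set ι)

/-- `c` is a same-sign representation of the root `k` along `Δ`. -/
def IsRep (k : ι) (c : ι →₀ ℤ) : Prop :=
  ↑c.support ⊆ Δ ∧ ((∀ j, 0 ≤ c j) ∨ (∀ j, c j ≤ 0)) ∧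
    Finsupp.linearCombination ℤ P.root c = P.root k

variable {P Δ}

lemma isRep_single {δ : ι} (hδ : δ ∈ Δ) : IsRep P Δ δ (Finsupp.single δ 1) := by
  classical
  refine ⟨?_, Or.inl fun j => ?_, ?_⟩
  · intro j hj
    have := Finsupp.support_single_subset hj
    rw [Finset.mem_singleton] at this
    exact this ▸ hδ
  · rw [Finsupp.single_apply]; split_ifs <;> norm_num
  · rw [Finsupp.linearCombination_single, one_smul]

lemma isRep_neg_single {δ : ι} (hδ : δ ∈ Δ) :
    IsRep P Δ (P.reflectionPerm δ δ) (-Finsupp.single δ 1) := by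
  classical
  refine ⟨?_, Or.inr fun j => ?_, ?_⟩
  · intro j hj
    rw [Finsupp.support_neg] at hj
    have := Finsupp.support_single_subset hj
    rw [Finset.mem_singleton] at this
    exact this ▸ hδ
  · rw [Finsupp.neg_apply, Finsupp.single_apply]; split_ifs <;> norm_num
  · rw [map_neg, Finsupp.linearCombination_single, one_smul, root_neg]

variable (h : ∀ k : ι, ∃! c : ι →₀ ℤ, IsRep P Δ k c)

include h in
lemma pairing_nonpos_of_unique [Finite ι] {δ δ' : ι} (hδ : δ ∈ Δ) (hδ' : δ' ∈ Δ) (hne : δ ≠ δ') :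
    P.pairing δ δ' ≤ 0 := by
  classical
  by_contra hpos
  push Not at hpos
  have hpos' : 0 < P.pairingIn ℤ δ δ' := by rw [pairingIn_int]; exact hpos
  obtain ⟨γ, hγ⟩ := P.root_sub_root_mem_of_pairingIn_pos hpos' hne
  obtain ⟨c, ⟨hcs, hcsign, hcl⟩, -⟩ := h γ
  rcases hcsign with hnn | hnp
  · have hrep : IsRep P Δ δ (Finsupp.single δ' 1 + c) := by
      refine ⟨?_, Or.inl fun j => ?_, ?_⟩
      · intro j hj
        rcases Finset.mem_union.mp (Finsupp.support_add hj) with h1 | h1
        · exact (isRep_single (P := P) hδ').1 h1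
        · exact hcs h1
      · rw [Finsupp.add_apply]
        have := hnn j
        have h2 : 0 ≤ (Finsupp.single δ' (1 : ℤ)) j := by
          rw [Finsupp.single_apply]; split_ifs <;> norm_num
        omega
      · rw [map_add, Finsupp.linearCombination_single, one_smul, hcl, hγ]; abel
    have heq := (h δ).unique hrep (isRep_single hδ)
    have h3 := congrArg (fun f => f δ') heq
    simp only [Finsupp.add_apply, Finsupp.single_eq_same] at h3
    rw [Finsupp.single_apply, if_neg hne] at h3
    have := hnn δ'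
    omega
  · have hrep : IsRep P Δ δ' (Finsupp.single δ 1 - c) := by
      refine ⟨?_, Or.inl fun j => ?_, ?_⟩
      · intro j hj
        rcases Finset.mem_union.mp (Finsupp.support_sub hj) with h1 | h1
        · exact (isRep_single (P := P) hδ).1 h1
        · exact hcs h1
      · rw [Finsupp.sub_apply]
        have := hnp j
        have h2 : 0 ≤ (Finsupp.single δ (1 : ℤ)) j := by
          rw [Finsupp.single_apply]; split_ifs <;> norm_num
        omega
      · rw [map_sub, Finsupp.linearCombination_single, one_smul, hcl, hγ]; abel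
    have heq := (h δ').unique hrep (isRep_single hδ')
    have h3 := congrArg (fun f => f δ) heq
    simp only [Finsupp.sub_apply, Finsupp.single_eq_same] at h3
    rw [Finsupp.single_apply, if_neg (Ne.symm hne)] at h3
    have := hnp δ
    omega

include h in
lemma rootForm_nonpos_of_unique [Fintype ι] {δ δ' : ι} (hδ : δ ∈ Δ) (hδ' : δ' ∈ Δ)
    (hne : δ ≠ δ') : P.RootForm (P.root δ) (P.root δ') ≤ 0 := by
  have h1 := (P.posRootForm ℤ).toInvariantForm.two_mul_apply_root_root δ δ'
  have h2 := pairing_nonpos_of_unique h hδ hδ' hne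
  have h3 : 0 < P.RootForm (P.root δ') (P.root δ') :=
    P.rootForm_pos_of_ne_zero (Submodule.subset_span ⟨δ', rfl⟩) (P.ne_zero δ')
  have h4 : 2 * P.RootForm (P.root δ) (P.root δ') = P.pairing δ δ' *
      P.RootForm (P.root δ') (P.root δ') := h1
  nlinarith

include h in
/-- A non-negative combination of `Δ` which vanishes is trivial. -/
lemma eq_zero_of_nonneg_of_unique {c : ι →₀ ℤ} (hcs : ↑c.support ⊆ Δ) (hnn : ∀ j, 0 ≤ c j)
    (hc0 : Finsupp.linearCombination ℤ P.root c = 0) : c = 0 := by
  classical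
  by_contra hne
  obtain ⟨δ₀, hδ₀⟩ : ∃ δ₀, c δ₀ ≠ 0 := by
    by_contra hcon
    push Not at hcon
    exact hne (Finsupp.ext hcon)
  have hδ₀Δ : δ₀ ∈ Δ := hcs (Finsupp.mem_support_iff.mpr hδ₀)
  have hpos : 0 < c δ₀ := lt_of_le_of_ne (hnn δ₀) (Ne.symm hδ₀)
  have hrep : IsRep P Δ (P.reflectionPerm δ₀ δ₀) (c - Finsupp.single δ₀ 1) := by
    refine ⟨?_, Or.inl fun j => ?_, ?_⟩
    · intro j hj
      rcases Finset.mem_union.mp (Finsupp.support_sub hj) with h1 | h1
      · exact hcs h1
      · exact (isRep_single (P := P) hδ₀Δ).1 h1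
    · rw [Finsupp.sub_apply, Finsupp.single_apply]
      split_ifs with hj
      · subst hj; omega
      · have := hnn j; omega
    · rw [map_sub, hc0, Finsupp.linearCombination_single, one_smul, root_neg, zero_sub]
  have heq := (h _).unique hrep (isRep_neg_single hδ₀Δ)
  have h3 := congrArg (fun f => f δ₀) heq
  simp only [Finsupp.sub_apply, Finsupp.neg_apply, Finsupp.single_eq_same] at h3
  omega

include h in
theorem linearIndepOn_of_unique [Finite ι] : LinearIndepOn ℤ P.root Δ := by
  classical
  let _ := Fintype.ofFinite ι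
  rw [linearIndepOn_iff]
  intro l hl hl0
  rw [Finsupp.mem_supported] at hl
  set lp : ι →₀ ℤ := l.mapRange (fun x => max x 0) (by simp) with hlp
  set ln : ι →₀ ℤ := l.mapRange (fun x => max (-x) 0) (by simp) with hln
  have hlpa : ∀ j, lp j = max (l j) 0 := fun j => Finsupp.mapRange_apply
  have hlna : ∀ j, ln j = max (-l j) 0 := fun j => Finsupp.mapRange_apply
  have hlps : ↑lp.support ⊆ Δ := fun j hj =>
    hl (Finsupp.support_mapRange hj)
  have hlns : ↑ln.support ⊆ Δ := fun j hj =>
    hl (Finsupp.support_mapRange hj)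
  have hlpnn : ∀ j, 0 ≤ lp j := fun j => by rw [hlpa]; exact le_max_right _ _
  have hlnnn : ∀ j, 0 ≤ ln j := fun j => by rw [hlna]; exact le_max_right _ _
  have hdisj : ∀ j, ln j ≠ 0 → lp j = 0 := by
    intro j hj
    rw [hlna] at hj
    rw [hlpa]
    rcases le_or_gt (l j) 0 with h1 | h1
    · exact max_eq_right h1
    · exfalso; apply hj; apply max_eq_right; omega
  have hsub : l = lp - ln := by
    ext j
    rw [Finsupp.sub_apply, hlpa, hlna]
    rcases le_or_gt (l j) 0 with h1 | h1
    · rw [max_eq_right h1, max_eq_left (by omega)]; omega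
    · rw [max_eq_left h1.le, max_eq_right (by omega)]; omega
  have hv : Finsupp.linearCombination ℤ P.root lp = Finsupp.linearCombination ℤ P.root ln := by
    have := hl0
    rw [hsub, map_sub] at this
    exact sub_eq_zero.mp this
  -- the key inequality
  have hkey1 : ∀ i ∈ Δ, lp i = 0 →
      P.RootForm (Finsupp.linearCombination ℤ P.root lp) (P.root i) ≤ 0 := by
    intro i hi hlpi
    rw [Finsupp.linearCombination_apply, Finsupp.sum, map_sum, LinearMap.sum_apply]
    apply Finset.sum_nonpos
    intro j hj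
    rw [map_smul, LinearMap.smul_apply, smul_eq_mul]
    by_cases hji : j = i
    · subst hji; rw [hlpi, zero_mul]
    · exact mul_nonpos_of_nonneg_of_nonpos (hlpnn j)
        (rootForm_nonpos_of_unique h (hlps hj) hi hji)
  have hkey2 : P.RootForm (Finsupp.linearCombination ℤ P.root lp)
      (Finsupp.linearCombination ℤ P.root ln) ≤ 0 := by
    conv_lhs => rw [Finsupp.linearCombination_apply ℤ (v := P.root) ln, Finsupp.sum, map_sum]
    apply Finset.sum_nonpos
    intro i hi
    rw [map_smul, smul_eq_mul]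
    exact mul_nonpos_of_nonneg_of_nonpos (hlnnn i)
      (hkey1 i (hlns hi) (hdisj i (Finsupp.mem_support_iff.mp hi)))
  have hv0 : Finsupp.linearCombination ℤ P.root lp = 0 := by
    apply P.eq_zero_of_mem_rootSpan_of_rootForm_self_eq_zero
    · rw [Finsupp.linearCombination_apply, Finsupp.sum]
      exact Submodule.sum_mem _ fun j _ =>
        Submodule.smul_mem _ _ (Submodule.subset_span ⟨j, rfl⟩)
    · apply le_antisymm _ (P.zero_le_rootForm _)
      have := hkey2
      rw [← hv] at this
      exact this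
  have hlp0 : lp = 0 := eq_zero_of_nonneg_of_unique h hlps hlpnn hv0
  have hln0 : ln = 0 := eq_zero_of_nonneg_of_unique h hlns hlnnn (hv ▸ hv0)
  rw [hsub, hlp0, hln0, sub_zero]

include h in
theorem isSimpleSys_of_unique [Finite ι] : IsSimpleSys P Δ := by
  classical
  refine ⟨linearIndepOn_of_unique h, fun k => ?_⟩
  obtain ⟨c, ⟨hcs, hcsign, hcl⟩, -⟩ := h k
  rcases hcsign with hnn | hnp
  · left
    rw [← hcl, Finsupp.linearCombination_apply, Finsupp.sum]
    refine AddSubmonoid.sum_mem _ fun j hj => ?_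
    have h1 : c j = ((c j).toNat : ℤ) := (Int.toNat_of_nonneg (hnn j)).symm
    rw [h1, natCast_zsmul]
    exact AddSubmonoid.nsmul_mem _ (root_mem_natSpan P (hcs hj)) _
  · right
    rw [← hcl, ← map_neg, Finsupp.linearCombination_apply, Finsupp.sum]
    refine AddSubmonoid.sum_mem _ fun j hj => ?_
    rw [Finsupp.support_neg] at hj
    have h1 : (-c) j = (((-c) j).toNat : ℤ) :=
      (Int.toNat_of_nonneg (by rw [Finsupp.neg_apply]; have := hnp j; omega)).symm
    rw [h1, natCast_zsmul]
    exact AddSubmonoid.nsmul_mem _ (root_mem_natSpan P (hcs hj)) _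

end

/-- If every root has a unique same-sign decomposition along `Δ`, then `Δ` is a simple system
consisting of indivisible roots. -/
theorem isSimpleSys_and_isIndiv_of_unique (P : RootPairing ι ℤ M N) [Finite ι] (Δ : Set ι)
    (h : ∀ k : ι, ∃! c : ι →₀ ℤ, (↑c.support ⊆ Δ ∧ ((∀ j, 0 ≤ c j) ∨ (∀ j, c j ≤ 0)) ∧
      Finsupp.linearCombination ℤ P.root c = P.root k)) :
    IsSimpleSys P Δ ∧ ∀ i ∈ Δ, IsIndiv P i := by
  have h' : ∀ k : ι, ∃! c : ι →₀ ℤ, IsRep P Δ k c := h
  have hΔ := isSimpleSys_of_unique h'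
  exact ⟨hΔ, fun i hi => isIndiv_of_mem hΔ hi⟩

end Groth.Agent.Lib.Helper2.RootD
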