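import Groth.Agent.Lib.Helper2.RootD.Parabolic
import Groth.Agent.Lib.Helper2.RootD.Cone
import Mathlib.Algebra.Module.Submodule.Union

/-!
# Root data: sets of roots cut out by a rational subspace
-/

set_option autoImplicit false

open Set Function

namespace Groth.Agent.Lib.Helper2.RootD

open _root_.RootD

variable {ι M N : Type*} [AddCommGroup M] [AddCommGroup N]

section RatCoord

variable {P : RootPairing ι ℤ M N} {Δ₀ : Set ι} (hΔ₀ : IsSimpleSys P Δ₀)

/-- Rational coordinates on the root lattice. -/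
noncomputable def ratCoord : spanOf P Δ₀ →+ (Δ₀ →₀ ℚ) :=
  (Finsupp.mapRange.addMonoidHom (Int.castAddHom ℚ)).comp
    ((basisOf hΔ₀.linInd).repr.toLinearMap.toAddMonoidHom)

lemma ratCoord_injective : Function.Injective (ratCoord hΔ₀) := by
  intro x y h
  apply (basisOf hΔ₀.linInd).repr.injective
  exact Finsupp.mapRange_injective (Int.cast : ℤ → ℚ) Int.cast_zero Int.cast_injective h

lemma ratCoord_zsmul (z : ℤ) (x : spanOf P Δ₀) :
    ratCoord hΔ₀ (z • x) = (z : ℚ) • ratCoord hΔ₀ x := by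
  rw [map_zsmul, Int.cast_smul_eq_zsmul]

lemma ratCoord_nsmul (n : ℕ) (x : spanOf P Δ₀) :
    ratCoord hΔ₀ (n • x) = (n : ℚ) • ratCoord hΔ₀ x := by
  rw [map_nsmul, Nat.cast_smul_eq_nsmul]

lemma exists_nsmul_of_ratCoord_mem (A : Set (spanOf P Δ₀)) (x : spanOf P Δ₀)
    (hx : ratCoord hΔ₀ x ∈ Submodule.span ℚ (ratCoord hΔ₀ '' A)) :
    ∃ n : ℕ, 0 < n ∧ n • x ∈ Submodule.span ℤ A := by
  have key : ∀ w ∈ Submodule.span ℚ (ratCoord hΔ₀ '' A),
      ∃ n : ℕ, 0 < n ∧ ∃ y ∈ Submodule.span ℤ A, (n : ℚ) • w = ratCoord hΔ₀ y := by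
    intro w hw
    induction hw using Submodule.span_induction with
    | mem w hw =>
      obtain ⟨a, ha, rfl⟩ := hw
      exact ⟨1, one_pos, a, Submodule.subset_span ha, by rw [Nat.cast_one, one_smul]⟩
    | zero => exact ⟨1, one_pos, 0, Submodule.zero_mem _, by rw [smul_zero, map_zero]⟩
    | add w₁ w₂ _ _ h₁ h₂ =>
      obtain ⟨n₁, hn₁, y₁, hy₁, e₁⟩ := h₁
      obtain ⟨n₂, hn₂, y₂, hy₂, e₂⟩ := h₂
      refine ⟨n₁ * n₂, Nat.mul_pos hn₁ hn₂, n₂ • y₁ + n₁ • y₂,
        Submodule.add_mem _ (Submodule.smul_of_tower_mem _ _ hy₁)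
          (Submodule.smul_of_tower_mem _ _ hy₂), ?_⟩
      rw [map_add, ratCoord_nsmul, ratCoord_nsmul, ← e₁, ← e₂, smul_add, smul_smul, smul_smul,
        Nat.cast_mul, mul_comm (n₁ : ℚ)]
    | smul q w _ h =>
      obtain ⟨n, hn, y, hy, e⟩ := h
      refine ⟨n * q.den, Nat.mul_pos hn q.den_pos, q.num • y, Submodule.smul_mem _ _ hy, ?_⟩
      rw [ratCoord_zsmul, ← e, smul_smul, smul_smul, Nat.cast_mul]
      congr 1
      rw [mul_assoc, mul_comm (q.den : ℚ), Rat.mul_den_eq_num, mul_comm]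
  obtain ⟨n, hn, y, hy, e⟩ := key _ hx
  refine ⟨n, hn, ?_⟩
  rw [← ratCoord_nsmul] at e
  rw [ratCoord_injective hΔ₀ e]
  exact hy

/-- For a set of roots `R'` cut out by a rational subspace there is an additive function on the
root lattice vanishing exactly on the roots of `R'`. -/
theorem exists_addHom_vanishing [Finite ι] (R' : Set ι)
    (hsat : ∀ k : ι, (∃ n : ℕ, 0 < n ∧ n • P.root k ∈ Submodule.span ℤ (P.root '' R')) → k ∈ R') :
    ∃ f₀ : spanOf P Δ₀ →+ ℚ, (∀ k ∈ R', f₀ (rootL hΔ₀ k) = 0) ∧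
      (∀ k, k ∉ R' → f₀ (rootL hΔ₀ k) ≠ 0) := by
  classical
  set A : Set (spanOf P Δ₀) := rootL hΔ₀ '' R' with hA
  set W : Submodule ℚ (Δ₀ →₀ ℚ) := Submodule.span ℚ (ratCoord hΔ₀ '' A) with hW
  have hnot : ∀ k, k ∉ R' → ratCoord hΔ₀ (rootL hΔ₀ k) ∉ W := by
    intro k hk hmem
    apply hk
    apply hsat
    obtain ⟨n, hn, hn'⟩ := exists_nsmul_of_ratCoord_mem hΔ₀ A _ hmem
    refine ⟨n, hn, ?_⟩
    have h1 : ((n • rootL hΔ₀ k : spanOf P Δ₀) : M) ∈
        Submodule.map (spanOf P Δ₀).subtype (Submodule.span ℤ A) :=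
      ⟨_, hn', rfl⟩
    rw [Submodule.map_span, hA, Set.image_image] at h1
    simpa using h1
  let v : {k : ι // k ∉ R'} → (Δ₀ →₀ ℚ) ⧸ W := fun k =>
    Submodule.Quotient.mk (ratCoord hΔ₀ (rootL hΔ₀ k))
  have hv : ∀ k, v k ≠ 0 := fun k h =>
    hnot k.1 k.2 ((Submodule.Quotient.mk_eq_zero W).mp h)
  obtain ⟨g, hg⟩ := Module.exists_dual_forall_apply_ne_zero (K := ℚ) v hv
  refine ⟨((g.comp W.mkQ).toAddMonoidHom).comp (ratCoord hΔ₀), ?_, ?_⟩
  · intro k hk
    have h1 : ratCoord hΔ₀ (rootL hΔ₀ k) ∈ W :=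
      Submodule.subset_span ⟨_, ⟨k, hk, rfl⟩, rfl⟩
    show g (W.mkQ (ratCoord hΔ₀ (rootL hΔ₀ k))) = 0
    rw [Submodule.mkQ_apply, (Submodule.Quotient.mk_eq_zero W).mpr h1, map_zero]
  · intro k hk
    exact hg ⟨k, hk⟩

end RatCoord

section Ext

variable {P : RootPairing ι ℤ M N}

lemma rootL_neg {Δ₀ : Set ι} (hΔ₀ : IsSimpleSys P Δ₀) (k : ι) :
    rootL hΔ₀ (P.reflectionPerm k k) = -rootL hΔ₀ k := Subtype.ext (root_neg P k)

/-- For a linearly independent set `Δ'`, an element of `Δ'` is not the sum of two roots in the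
monoid generated by `Δ'`. -/
lemma not_sum_of_mem_of_linearIndepOn {Δ' : Set ι} (hli : LinearIndepOn ℤ P.root Δ') {δ' : ι}
    (hδ' : δ' ∈ Δ') {i j : ι} (hi : i ∈ posOf P Δ') (hj : j ∈ posOf P Δ') :
    P.root δ' ≠ P.root i + P.root j := by
  classical
  intro hsum
  have hi' := natSpan_le_spanOf _ hi
  have hj' := natSpan_le_spanOf _ hj
  have h1 : basisOf hli ⟨δ', hδ'⟩ = (⟨P.root i, hi'⟩ : spanOf P Δ') + ⟨P.root j, hj'⟩ :=
    Subtype.ext ((basisOf_apply hli ⟨δ', hδ'⟩).trans hsum)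
  have h2 := congrArg (fun x => htL Δ' ((basisOf hli).repr x)) h1
  simp only [map_add, Module.Basis.repr_self, htL_single] at h2
  have hne : ∀ (k : ι) (hk : P.root k ∈ spanOf P Δ'),
      (basisOf hli).repr (⟨P.root k, hk⟩ : spanOf P Δ') ≠ 0 := by
    intro k hk h0
    have := (basisOf hli).repr.map_eq_zero_iff.mp h0
    exact P.ne_zero k (congrArg Subtype.val this)
  have h3 := htL_pos (fun δ => repr_nonneg_of_mem_natSpan hli δ _ hi hi') (hne i hi')
  have h4 := htL_pos (fun δ => repr_nonneg_of_mem_natSpan hli δ _ hj hj') (hne j hj')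
  omega

/-- If `R'` is cut out by a rational subspace, any simple system `Δ'` of `R'` extends to a simple
system of the whole root datum, and `R'` is the set of roots in the span of `Δ'`. -/
theorem simpleSys_sub_extends (P : RootPairing ι ℤ M N) [Finite ι] (R' : Set ι)
    (hsat : ∀ k : ι, (∃ n : ℕ, 0 < n ∧ n • P.root k ∈ Submodule.span ℤ (P.root '' R')) → k ∈ R')
    (Δ' : Set ι) (hΔ'R : Δ' ⊆ R') (hli : LinearIndepOn ℤ P.root Δ')
    (hgen : ∀ k ∈ R', P.root k ∈ natSpan P Δ' ∨ -P.root k ∈ natSpan P Δ') :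
    ∃ Δ : Set ι, IsSimpleSys P Δ ∧ Δ' ⊆ Δ ∧ R' = inSpan P Δ' := by
  obtain ⟨Δ₀, hΔ₀⟩ := exists_isSimpleSys P
  obtain ⟨f₀, hf0, hfne⟩ := exists_addHom_vanishing hΔ₀ R' hsat
  have hspan : Submodule.span ℤ (P.root '' Δ') ≤ Submodule.span ℤ (P.root '' R') :=
    Submodule.span_mono (Set.image_mono hΔ'R)
  have hposR' : posOf P Δ' ⊆ R' := fun k hk =>
    hsat k ⟨1, one_pos, by rw [one_smul]; exact hspan (natSpan_le_span Δ' _ hk)⟩
  have hf0pos : ∀ k ∈ posOf P Δ', f₀ (rootL hΔ₀ k) = 0 := fun k hk => hf0 k (hposR' hk)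
  have hfneg : ∀ k, f₀ (rootL hΔ₀ (P.reflectionPerm k k)) = -f₀ (rootL hΔ₀ k) := fun k => by
    rw [rootL_neg, map_neg]
  have hR'eq : R' = inSpan P Δ' := by
    apply Set.Subset.antisymm
    · intro k hk
      rcases hgen k hk with h | h
      · exact natSpan_le_span Δ' _ h
      · have := Submodule.neg_mem _ (natSpan_le_span Δ' _ h)
        rw [neg_neg] at this
        exact this
    · intro k hk
      exact hsat k ⟨1, one_pos, by rw [one_smul]; exact hspan hk⟩
  set S : Set ι := {k | 0 < f₀ (rootL hΔ₀ k)} ∪ posOf P Δ' with hS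
  have hnn : ∀ k ∈ S, 0 ≤ f₀ (rootL hΔ₀ k) := by
    rintro k (hk | hk)
    · exact le_of_lt hk
    · exact (hf0pos k hk).ge
  have h1 : ∀ i ∈ S, P.reflectionPerm i i ∉ S := by
    rintro k (hk | hk) (hk' | hk')
    · have h1 : 0 < f₀ (rootL hΔ₀ k) := hk
      have h2 : 0 < f₀ (rootL hΔ₀ (P.reflectionPerm k k)) := hk'
      rw [hfneg] at h2
      linarith
    · have h1 : 0 < f₀ (rootL hΔ₀ k) := hk
      have h2 := hf0pos _ hk'
      rw [hfneg] at h2
      linarith
    · have h1 : 0 < f₀ (rootL hΔ₀ (P.reflectionPerm k k)) := hk'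
      rw [hfneg, hf0pos k hk] at h1
      linarith
    · have h2 : P.root (P.reflectionPerm k k) ∈ natSpan P Δ' := hk'
      rw [root_neg] at h2
      exact P.ne_zero k (eq_zero_of_add_eq_zero_of_mem_natSpan hli hk h2 (add_neg_cancel _))
  have h2 : ∀ i, i ∈ S ∨ P.reflectionPerm i i ∈ S := by
    intro k
    rcases lt_trichotomy (f₀ (rootL hΔ₀ k)) 0 with h | h | h
    · right; left
      show 0 < f₀ (rootL hΔ₀ (P.reflectionPerm k k))
      rw [hfneg]; linarith
    · have hkR : k ∈ R' := by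
        by_contra hcon
        exact hfne k hcon h
      rcases hgen k hkR with h' | h'
      · left; right; exact h'
      · right; right
        show P.root (P.reflectionPerm k k) ∈ natSpan P Δ'
        rw [root_neg]; exact h'
    · left; left; exact h
  have hcl : IsClosedSub P S := by
    intro i j k hi hj hk
    have hadd : f₀ (rootL hΔ₀ k) = f₀ (rootL hΔ₀ i) + f₀ (rootL hΔ₀ j) := by
      have : rootL hΔ₀ k = rootL hΔ₀ i + rootL hΔ₀ j := Subtype.ext hk
      rw [this, map_add]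
    rcases hi with hi | hi
    · left
      have h1 : 0 < f₀ (rootL hΔ₀ i) := hi
      have h2 := hnn j hj
      show 0 < f₀ (rootL hΔ₀ k)
      rw [hadd]; linarith
    · rcases hj with hj | hj
      · left
        have h1 : 0 < f₀ (rootL hΔ₀ j) := hj
        show 0 < f₀ (rootL hΔ₀ k)
        rw [hadd, hf0pos i hi]; linarith
      · right
        show P.root k ∈ natSpan P Δ'
        rw [hk]; exact add_mem hi hj
  obtain ⟨g, -, hSg⟩ := exists_weyl_eq_posOf P hΔ₀ h1 h2 hcl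
  have hΔ := isSimpleSys_smul P g hΔ₀
  refine ⟨_, hΔ, ?_, hR'eq⟩
  intro δ' hδ'
  have hδ'S : δ' ∈ S := Or.inr (root_mem_natSpan P hδ')
  rw [mem_iff_not_sum hΔ (hSg ▸ hδ'S)]
  rintro ⟨i, j, hi, hj, hsum⟩
  rw [← hSg] at hi hj
  have hadd : f₀ (rootL hΔ₀ δ') = f₀ (rootL hΔ₀ i) + f₀ (rootL hΔ₀ j) := by
    have : rootL hΔ₀ δ' = rootL hΔ₀ i + rootL hΔ₀ j := Subtype.ext hsum
    rw [this, map_add]
  rw [hf0 δ' (hΔ'R hδ')] at hadd
  have hi0 := hnn i hi
  have hj0 := hnn j hj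
  have hi' : i ∈ posOf P Δ' := by
    rcases hi with h | h
    · have : 0 < f₀ (rootL hΔ₀ i) := h
      linarith
    · exact h
  have hj' : j ∈ posOf P Δ' := by
    rcases hj with h | h
    · have : 0 < f₀ (rootL hΔ₀ j) := h
      linarith
    · exact h
  exact not_sum_of_mem_of_linearIndepOn hli hδ' hi' hj' hsum

end Ext

section Iff

variable {P : RootPairing ι ℤ M N}

/-- The set of roots in the span of a subset of a simple system is cut out by a rational
subspace. -/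
lemma isSat_inSpan {Δ Δ' : Set ι} (hΔ : IsSimpleSys P Δ) (hsub : Δ' ⊆ Δ) (k : ι)
    (h : ∃ n : ℕ, 0 < n ∧ n • P.root k ∈ Submodule.span ℤ (P.root '' inSpan P Δ')) :
    k ∈ inSpan P Δ' := by
  obtain ⟨n, hn, hmem⟩ := h
  have hle : Submodule.span ℤ (P.root '' inSpan P Δ') ≤ Submodule.span ℤ (P.root '' Δ') := by
    rw [Submodule.span_le]
    rintro _ ⟨j, hj, rfl⟩
    exact hj
  have hmem' : n • P.root k ∈ Submodule.span ℤ (P.root '' (Δ ∩ Δ')) := by
    rw [Set.inter_eq_right.mpr hsub]; exact hle hmem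
  rw [root_mem_span_sub_iff hΔ hsub]
  intro δ hδ
  by_contra hcon
  apply hδ
  have hk' : n • P.root k ∈ spanOf P Δ := Submodule.smul_of_tower_mem _ _ (root_mem_spanOf hΔ k)
  have h0 := repr_eq_zero_of_mem_span_sub hΔ.linInd δ hcon _ hmem' hk'
  have h1 : (⟨n • P.root k, hk'⟩ : spanOf P Δ) = n • rootL hΔ k := rfl
  rw [h1, map_nsmul, Finsupp.smul_apply, smul_eq_zero] at h0
  rcases h0 with h | h
  · omega
  · exact h

/-- A set of roots is cut out by a rational subspace iff it is the set of roots in the span of a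
subset of a simple system. -/
theorem eq_inSpan_iff_sat (P : RootPairing ι ℤ M N) [Finite ι] (R' : Set ι) :
    (∀ k : ι, (∃ n : ℕ, 0 < n ∧ n • P.root k ∈ Submodule.span ℤ (P.root '' R')) → k ∈ R') ↔
      ∃ Δ Δ' : Set ι, IsSimpleSys P Δ ∧ Δ' ⊆ Δ ∧ R' = inSpan P Δ' := by
  constructor
  · intro hsat
    obtain ⟨Δ₀, hΔ₀⟩ := exists_isSimpleSys P
    obtain ⟨f₀, hf0, hfne⟩ := exists_addHom_vanishing hΔ₀ R' hsat
    have hfneg : ∀ k, f₀ (rootL hΔ₀ (P.reflectionPerm k k)) = -f₀ (rootL hΔ₀ k) := fun k => by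
      rw [rootL_neg, map_neg]
    have hR'neg : ∀ k ∈ R', P.reflectionPerm k k ∈ R' := by
      intro k hk
      by_contra hcon
      have := hfne _ hcon
      rw [hfneg, hf0 k hk, neg_zero] at this
      exact this rfl
    set S : Set ι := {k | 0 < f₀ (rootL hΔ₀ k)} ∪ (R' ∩ posOf P Δ₀) with hS
    have hnn : ∀ k ∈ S, 0 ≤ f₀ (rootL hΔ₀ k) := by
      rintro k (hk | hk)
      · exact le_of_lt hk
      · exact (hf0 k hk.1).ge
    have h1 : ∀ i ∈ S, P.reflectionPerm i i ∉ S := by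
      rintro k (hk | hk) (hk' | hk')
      · have h1 : 0 < f₀ (rootL hΔ₀ k) := hk
        have h2 : 0 < f₀ (rootL hΔ₀ (P.reflectionPerm k k)) := hk'
        rw [hfneg] at h2
        linarith
      · have h1 : 0 < f₀ (rootL hΔ₀ k) := hk
        have h2 := hf0 _ hk'.1
        rw [hfneg] at h2
        linarith
      · have h1 : 0 < f₀ (rootL hΔ₀ (P.reflectionPerm k k)) := hk'
        rw [hfneg, hf0 k hk.1] at h1
        linarith
      · exact not_mem_posOf_neg hΔ₀ hk.2 hk'.2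
    have h2 : ∀ i, i ∈ S ∨ P.reflectionPerm i i ∈ S := by
      intro k
      rcases lt_trichotomy (f₀ (rootL hΔ₀ k)) 0 with h | h | h
      · right; left
        show 0 < f₀ (rootL hΔ₀ (P.reflectionPerm k k))
        rw [hfneg]; linarith
      · have hkR : k ∈ R' := by
          by_contra hcon
          exact hfne k hcon h
        rcases mem_posOf_or_neg hΔ₀ k with h' | h'
        · left; right; exact ⟨hkR, h'⟩
        · right; right; exact ⟨hR'neg k hkR, h'⟩
      · left; left; exact h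
    have hcl : IsClosedSub P S := by
      intro i j k hi hj hk
      have hadd : f₀ (rootL hΔ₀ k) = f₀ (rootL hΔ₀ i) + f₀ (rootL hΔ₀ j) := by
        have : rootL hΔ₀ k = rootL hΔ₀ i + rootL hΔ₀ j := Subtype.ext hk
        rw [this, map_add]
      rcases hi with hi | hi
      · left
        have h1 : 0 < f₀ (rootL hΔ₀ i) := hi
        have h2 := hnn j hj
        show 0 < f₀ (rootL hΔ₀ k)
        rw [hadd]; linarith
      · rcases hj with hj | hj
        · left
          have h1 : 0 < f₀ (rootL hΔ₀ j) := hj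
          show 0 < f₀ (rootL hΔ₀ k)
          rw [hadd, hf0 i hi.1]; linarith
        · right
          refine ⟨?_, ?_⟩
          · by_contra hcon
            apply hfne k hcon
            rw [hadd, hf0 i hi.1, hf0 j hj.1, add_zero]
          · show P.root k ∈ natSpan P Δ₀
            rw [hk]; exact add_mem hi.2 hj.2
    obtain ⟨g, -, hSg⟩ := exists_weyl_eq_posOf P hΔ₀ h1 h2 hcl
    have hΔ := isSimpleSys_smul P g hΔ₀
    set Δ := (fun i => g • i) '' Δ₀ with hΔdef
    have hsub : {i : ι | i ∈ Δ ∧ i ∈ R'} ⊆ Δ := fun i hi => hi.1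
    refine ⟨Δ, {i : ι | i ∈ Δ ∧ i ∈ R'}, hΔ, hsub, ?_⟩
    have hpos : ∀ k ∈ R', k ∈ posOf P Δ → k ∈ inSpan P {i : ι | i ∈ Δ ∧ i ∈ R'} := by
      intro k hkR hkpos
      rw [root_mem_span_sub_iff hΔ hsub]
      intro δ hδ
      refine ⟨δ.2, ?_⟩
      by_contra hδR
      -- expand `f₀ (root k)` along `Δ`
      have hexp : rootL hΔ₀ k = (coef hΔ k).sum fun δ a => a • rootL hΔ₀ (δ : ι) := by
        apply Subtype.ext
        rw [coe_rootL, root_eq_sum hΔ k, Finsupp.sum, Finsupp.sum, Submodule.coe_sum]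
        refine Finset.sum_congr rfl fun δ _ => ?_
        rw [Submodule.coe_smul, coe_rootL]
      have hf := congrArg f₀ hexp
      rw [hf0 k hkR, Finsupp.sum, map_sum] at hf
      have hterm : ∀ ε ∈ (coef hΔ k).support, 0 ≤ f₀ (coef hΔ k ε • rootL hΔ₀ (ε : ι)) := by
        intro ε _
        rw [map_zsmul]
        have h1 := coef_nonneg_of_mem_posOf hΔ hkpos ε
        have h2 : 0 ≤ f₀ (rootL hΔ₀ (ε : ι)) := hnn _ (hSg ▸ mem_posOf_of_mem ε.2)
        exact smul_nonneg h1 h2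
      have h0 := (Finset.sum_eq_zero_iff_of_nonneg hterm).mp hf.symm δ
        (Finsupp.mem_support_iff.mpr hδ)
      rw [map_zsmul, smul_eq_zero] at h0
      rcases h0 with h | h
      · exact hδ h
      · exact hfne _ hδR h
    apply Set.Subset.antisymm
    · intro k hk
      rcases mem_posOf_or_neg hΔ k with h | h
      · exact hpos k hk h
      · have := hpos _ (hR'neg k hk) h
        have h3 : P.root (P.reflectionPerm k k) ∈
            Submodule.span ℤ (P.root '' {i : ι | i ∈ Δ ∧ i ∈ R'}) := this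
        rw [root_neg] at h3
        have h4 := Submodule.neg_mem _ h3
        rw [neg_neg] at h4
        exact h4
    · intro k hk
      apply hsat
      refine ⟨1, one_pos, ?_⟩
      rw [one_smul]
      exact Submodule.span_mono (Set.image_mono fun i hi => hi.2) hk
  · rintro ⟨Δ, Δ', hΔ, hsub, rfl⟩
    exact fun k h => isSat_inSpan hΔ hsub k h

end Iff

end Groth.Agent.Lib.Helper2.RootD
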