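import Groth.Agent.Lib.Helper2.RootD.Words
import Groth.Agent.S5508

/-!
# Root data: the subgroup generated by part of the simple reflections
-/

set_option autoImplicit false

open Set Function

namespace Groth.Agent.Lib.Helper2.RootD

open _root_.RootD

variable {ι M N : Type*} [AddCommGroup M] [AddCommGroup N]

section

variable {P : RootPairing ι ℤ M N} {Δ : Set ι}

/-- The condition: `g` moves every root by an element of the rational span of `Δ'`. -/
def MovesInto (P : RootPairing ι ℤ M N) (Δ' : Set ι) (g : P.Aut) : Prop :=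
  ∀ k : ι, ∃ n : ℕ, 0 < n ∧
    n • (P.root (g • k) - P.root k) ∈ Submodule.span ℤ (P.root '' Δ')

lemma movesInto_of_mem_closure {Δ' : Set ι} {g : P.Aut}
    (hg : g ∈ Subgroup.closure ((fun i : ι => RootPairing.Equiv.reflection P i) '' Δ')) :
    ∀ k : ι, P.root (g • k) - P.root k ∈ Submodule.span ℤ (P.root '' Δ') := by
  induction hg using Subgroup.closure_induction'' with
  | mem x hx =>
    obtain ⟨i, hi, rfl⟩ := hx
    intro k
    rw [reflection_aut_smul, root_reflectionPerm', sub_sub_cancel_left]
    exact Submodule.neg_mem _ (Submodule.smul_mem _ _ (Submodule.subset_span ⟨i, hi, rfl⟩))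
  | inv_mem x hx =>
    obtain ⟨i, hi, rfl⟩ := hx
    intro k
    rw [RootPairing.Equiv.reflection_inv, reflection_aut_smul, root_reflectionPerm',
      sub_sub_cancel_left]
    exact Submodule.neg_mem _ (Submodule.smul_mem _ _ (Submodule.subset_span ⟨i, hi, rfl⟩))
  | one => intro k; rw [one_smul, sub_self]; exact Submodule.zero_mem _
  | mul x y _ _ hx hy =>
    intro k
    have : P.root ((x * y) • k) - P.root k =
        (P.root (x • (y • k)) - P.root (y • k)) + (P.root (y • k) - P.root k) := by
      rw [mul_smul]; abel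
    rw [this]
    exact Submodule.add_mem _ (hx _) (hy _)

lemma MovesInto.mul_reflection {Δ' : Set ι} {g : P.Aut} (hg : MovesInto P Δ' g) {a : ι}
    (ha : a ∈ Δ') : MovesInto P Δ' (g * RootPairing.Equiv.reflection P a) := by
  intro k
  obtain ⟨n, hn, hmem⟩ := hg (P.reflectionPerm a k)
  refine ⟨n, hn, ?_⟩
  have : P.root ((g * RootPairing.Equiv.reflection P a) • k) - P.root k =
      (P.root (g • P.reflectionPerm a k) - P.root (P.reflectionPerm a k)) +
        (P.root (P.reflectionPerm a k) - P.root k) := by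
    rw [mul_smul, reflection_aut_smul]; abel
  rw [this, smul_add]
  refine Submodule.add_mem _ hmem (Submodule.smul_of_tower_mem _ _ ?_)
  rw [root_reflectionPerm', sub_sub_cancel_left]
  exact Submodule.neg_mem _ (Submodule.smul_mem _ _ (Submodule.subset_span ⟨a, ha, rfl⟩))

variable (hΔ : IsSimpleSys P Δ)

include hΔ in
lemma mem_closure_of_movesInto_aux [Finite ι] {Δ' : Set ι} (hsub : Δ' ⊆ Δ) :
    ∀ (n : ℕ) (l : List ι), l.length = n → IsMinWord P Δ l → MovesInto P Δ' (rprod P l) →
      rprod P l ∈ Subgroup.closure ((fun i : ι => RootPairing.Equiv.reflection P i) '' Δ') := by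
  classical
  intro n
  induction n with
  | zero =>
    intro l hlen _ _
    rw [List.length_eq_zero_iff.mp hlen, rprod_nil]
    exact one_mem _
  | succ n ih =>
    intro l hlen hmin hmv
    have hne : l ≠ [] := by
      intro h; rw [h] at hlen; simp at hlen
    obtain ⟨l₀, a, rfl⟩ : ∃ l₀ a, l = l₀ ++ [a] :=
      ⟨l.dropLast, l.getLast hne, (List.dropLast_append_getLast hne).symm⟩
    have haΔ : a ∈ Δ := hmin.mem_last
    have hpos := IsMinWord.pos hΔ (le_refl Δ) hmin
    have hga : rprod P (l₀ ++ [a]) • a = P.reflectionPerm (rprod P l₀ • a) (rprod P l₀ • a) := by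
      rw [rprod_snoc, mul_smul, reflection_aut_smul, smul_neg_index]
    -- the last letter lies in `Δ'`
    have haΔ' : a ∈ Δ' := by
      by_contra hcon
      obtain ⟨m, hm, hmem⟩ := hmv a
      have hmem' : m • (P.root (rprod P (l₀ ++ [a]) • a) - P.root a) ∈
          Submodule.span ℤ (P.root '' (Δ ∩ Δ')) := by
        rw [Set.inter_eq_right.mpr hsub]; exact hmem
      have hx : m • (P.root (rprod P (l₀ ++ [a]) • a) - P.root a) ∈ spanOf P Δ :=
        Submodule.smul_of_tower_mem _ _
          (Submodule.sub_mem _ (root_mem_spanOf hΔ _) (root_mem_spanOf hΔ _))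
      have h0 := repr_eq_zero_of_mem_span_sub hΔ.linInd ⟨a, haΔ⟩ hcon _ hmem' hx
      have h1 : (⟨m • (P.root (rprod P (l₀ ++ [a]) • a) - P.root a), hx⟩ : spanOf P Δ) =
          m • (rootL hΔ (rprod P (l₀ ++ [a]) • a) - rootL hΔ a) := rfl
      rw [h1, map_nsmul, map_sub, Finsupp.smul_apply, Finsupp.sub_apply] at h0
      have h2 : (basisOf hΔ.linInd).repr (rootL hΔ a) = coef hΔ a := rfl
      have h3 : (basisOf hΔ.linInd).repr (rootL hΔ (rprod P (l₀ ++ [a]) • a)) =
          coef hΔ (rprod P (l₀ ++ [a]) • a) := rfl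
      rw [h2, h3, hga, coef_neg, coef_of_mem hΔ ⟨a, haΔ⟩, Finsupp.neg_apply,
        Finsupp.single_eq_same, smul_eq_zero] at h0
      have h4 := coef_nonneg_of_mem_posOf hΔ hpos ⟨a, haΔ⟩
      rcases h0 with h | h
      · omega
      · omega
    have hmv' : MovesInto P Δ' (rprod P l₀) := by
      have := hmv.mul_reflection haΔ'
      rwa [rprod_snoc, mul_assoc, reflection_mul_self, mul_one] at this
    have hlen' : l₀.length = n := by
      simp only [List.length_append, List.length_cons, List.length_nil] at hlen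
      omega
    have := ih l₀ hlen' hmin.prefix hmv'
    rw [rprod_snoc]
    exact mul_mem this (Subgroup.subset_closure ⟨a, haΔ', rfl⟩)

include hΔ in
/-- An element of the Weyl group belongs to the subgroup generated by the reflections in
`Δ' ⊆ Δ` iff it moves every root by an element of the rational span of `Δ'`. -/
theorem mem_weylSub_iff [Finite ι] {Δ' : Set ι} (hsub : Δ' ⊆ Δ) (g : P.Aut)
    (hg : g ∈ P.weylGroup) :
    g ∈ Subgroup.closure ((fun i : ι => RootPairing.Equiv.reflection P i) '' Δ') ↔
      ∀ k : ι, ∃ n : ℕ, 0 < n ∧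
        n • (P.root (g • k) - P.root k) ∈ Submodule.span ℤ (P.root '' Δ') := by
  constructor
  · intro h k
    exact ⟨1, one_pos, by rw [one_smul]; exact movesInto_of_mem_closure h k⟩
  · intro hmv
    have hg' : g ∈ Subgroup.closure ((fun i : ι => RootPairing.Equiv.reflection P i) '' Δ) := by
      rw [(Groth.Agent.S5508.result P Δ hΔ).1]; exact hg
    obtain ⟨l, hmin, rfl⟩ := exists_minWord P hg'
    exact mem_closure_of_movesInto_aux hΔ hsub l.length l rfl hmin hmv

end

end Groth.Agent.Lib.Helper2.RootD
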