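import Groth.Agent.Lib.Helper2.RootD.Indiv
import Groth.Agent.Lib.Helper2.RootD.Aut

/-!
# Root data: words in simple reflections, the exchange condition
-/

set_option autoImplicit false

open Set Function

namespace Groth.Agent.Lib.Helper2.RootD

open _root_.RootD

variable {ι M N : Type*} [AddCommGroup M] [AddCommGroup N]

section Basic

variable (P : RootPairing ι ℤ M N)

/-- The product of the reflections along a list of roots. -/
noncomputable def rprod (l : List ι) : P.Aut :=
  (l.map fun a => RootPairing.Equiv.reflection P a).prod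

@[simp] lemma rprod_nil : rprod P [] = 1 := by simp [rprod]

@[simp] lemma rprod_cons (a : ι) (l : List ι) :
    rprod P (a :: l) = RootPairing.Equiv.reflection P a * rprod P l := by simp [rprod]

@[simp] lemma rprod_append (l₁ l₂ : List ι) : rprod P (l₁ ++ l₂) = rprod P l₁ * rprod P l₂ := by
  simp [rprod]

lemma rprod_snoc (l : List ι) (a : ι) :
    rprod P (l ++ [a]) = rprod P l * RootPairing.Equiv.reflection P a := by
  rw [rprod_append, rprod_cons, rprod_nil, mul_one]

lemma reflection_mul_self (a : ι) :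
    RootPairing.Equiv.reflection P a * RootPairing.Equiv.reflection P a = 1 := by
  rw [mul_eq_one_iff_inv_eq, RootPairing.Equiv.reflection_inv]

lemma rprod_mem_closure {Δ' : Set ι} {l : List ι} (hl : ∀ a ∈ l, a ∈ Δ') :
    rprod P l ∈ Subgroup.closure ((fun i : ι => RootPairing.Equiv.reflection P i) '' Δ') := by
  induction l with
  | nil => rw [rprod_nil]; exact one_mem _
  | cons b t ih =>
    rw [rprod_cons]
    exact mul_mem (Subgroup.subset_closure ⟨b, hl b List.mem_cons_self, rfl⟩)
      (ih fun a ha => hl a (List.mem_cons_of_mem _ ha))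

lemma exists_word_of_mem_closure {Δ' : Set ι} {g : P.Aut}
    (hg : g ∈ Subgroup.closure ((fun i : ι => RootPairing.Equiv.reflection P i) '' Δ')) :
    ∃ l : List ι, (∀ a ∈ l, a ∈ Δ') ∧ rprod P l = g := by
  induction hg using Subgroup.closure_induction'' with
  | mem x hx =>
    obtain ⟨i, hi, rfl⟩ := hx
    exact ⟨[i], by simpa using hi, by simp⟩
  | inv_mem x hx =>
    obtain ⟨i, hi, rfl⟩ := hx
    exact ⟨[i], by simpa using hi, by simp⟩
  | one => exact ⟨[], by simp, by simp⟩
  | mul x y _ _ hx hy =>
    obtain ⟨l₁, h₁, rfl⟩ := hx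
    obtain ⟨l₂, h₂, rfl⟩ := hy
    refine ⟨l₁ ++ l₂, ?_, rprod_append P l₁ l₂⟩
    intro a ha
    rcases List.mem_append.mp ha with h | h
    · exact h₁ a h
    · exact h₂ a h

/-- The reflection in the image of a root under an automorphism is the conjugate reflection. -/
lemma reflection_smul_conj (g : P.Aut) (a : ι) :
    RootPairing.Equiv.reflection P (g • a) = g * RootPairing.Equiv.reflection P a * g⁻¹ := by
  apply RootPairing.Equiv.weightHom_injective P
  ext x
  show RootPairing.Equiv.reflection P (g • a) • x =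
    (g * RootPairing.Equiv.reflection P a * g⁻¹) • x
  rw [mul_smul, mul_smul, RootPairing.Equiv.reflection_smul, RootPairing.Equiv.reflection_smul,
    P.reflection_apply, P.reflection_apply, smul_sub, smul_inv_smul, root_smul, smul_comm]
  have := coroot'_aut_smul P g⁻¹ a x
  rw [inv_inv] at this
  rw [this]

/-- A word of minimal length among the words with letters in `Δ'`. -/
def IsMinWord (Δ' : Set ι) (l : List ι) : Prop :=
  (∀ a ∈ l, a ∈ Δ') ∧
    ∀ l' : List ι, (∀ a ∈ l', a ∈ Δ') → rprod P l' = rprod P l → l.length ≤ l'.length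

variable {P}

lemma IsMinWord.prefix {Δ' : Set ι} {l₀ : List ι} {a : ι} (h : IsMinWord P Δ' (l₀ ++ [a])) :
    IsMinWord P Δ' l₀ := by
  refine ⟨fun b hb => h.1 b (List.mem_append_left _ hb), fun l' hl' hprod => ?_⟩
  have := h.2 (l' ++ [a]) (by
    intro b hb
    rcases List.mem_append.mp hb with h' | h'
    · exact hl' b h'
    · exact h.1 b (List.mem_append_right _ h')) (by rw [rprod_snoc, rprod_snoc, hprod])
  simp only [List.length_append, List.length_cons, List.length_nil] at this
  omega

lemma IsMinWord.mem_last {Δ' : Set ι} {l₀ : List ι} {a : ι} (h : IsMinWord P Δ' (l₀ ++ [a])) :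
    a ∈ Δ' := h.1 a (by simp)

variable (P)

lemma exists_minWord {Δ' : Set ι} {g : P.Aut}
    (hg : g ∈ Subgroup.closure ((fun i : ι => RootPairing.Equiv.reflection P i) '' Δ')) :
    ∃ l : List ι, IsMinWord P Δ' l ∧ rprod P l = g := by
  classical
  have hex : ∃ n : ℕ, ∃ l : List ι, l.length = n ∧ (∀ a ∈ l, a ∈ Δ') ∧ rprod P l = g := by
    obtain ⟨l, hl, hprod⟩ := exists_word_of_mem_closure P hg
    exact ⟨l.length, l, rfl, hl, hprod⟩
  obtain ⟨l, hlen, hl, hprod⟩ := Nat.find_spec hex
  refine ⟨l, ⟨hl, fun l' hl' hprod' => ?_⟩, hprod⟩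
  rw [hlen]
  exact Nat.find_min' hex ⟨l', rfl, hl', hprod'.trans hprod⟩

end Basic

section Exchange

variable {P : RootPairing ι ℤ M N} {Δ : Set ι} (hΔ : IsSimpleSys P Δ)

include hΔ

/-- The exchange condition. -/
theorem exch [Finite ι] : ∀ (l₀ : List ι), (∀ x ∈ l₀, x ∈ Δ) → ∀ a ∈ Δ,
    (rprod P l₀ • a) ∉ posOf P Δ →
    ∃ l₁ : List ι, l₁.Sublist l₀ ∧ l₁.length + 1 = l₀.length ∧
      rprod P l₀ * RootPairing.Equiv.reflection P a = rprod P l₁ := by
  intro l₀
  induction l₀ with
  | nil =>
    intro _ a ha hneg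
    exfalso
    apply hneg
    rw [rprod_nil, one_smul]
    exact mem_posOf_of_mem ha
  | cons b t ih =>
    intro hl a ha hneg
    have hb : b ∈ Δ := hl b List.mem_cons_self
    have ht : ∀ x ∈ t, x ∈ Δ := fun x hx => hl x (List.mem_cons_of_mem _ hx)
    by_cases hγ : (rprod P t • a) ∈ posOf P Δ
    · rw [rprod_cons, mul_smul, reflection_aut_smul] at hneg
      have hnli : ¬ LinearIndependent ℤ ![P.root (rprod P t • a), P.root b] := by
        intro hli
        exact hneg (reflectionPerm_mem_posOf hΔ hγ hb hli)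
      have hγb : rprod P t • a = b := by
        rcases eq_or_eq_two_smul_of_not_linearIndependent hΔ hγ hb hnli with h | h
        · exact h
        · exfalso
          exact isIndiv_aut_smul (rprod P t) (isIndiv_of_mem hΔ ha) b h.symm
      refine ⟨t, List.sublist_cons_self b t, rfl, ?_⟩
      have hconj := reflection_smul_conj P (rprod P t) a
      rw [hγb] at hconj
      rw [rprod_cons, hconj]
      simp only [mul_assoc, inv_mul_cancel_left, reflection_mul_self, mul_one]
    · obtain ⟨t₁, ht₁, hlen, heq⟩ := ih ht a ha hγ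
      refine ⟨b :: t₁, ht₁.cons_cons b, by simp [hlen], ?_⟩
      rw [rprod_cons, mul_assoc, heq, rprod_cons]

/-- For a word of minimal length among the words in `Δ' ⊆ Δ`, the last letter is sent to a
positive root by the product of the previous ones. -/
theorem IsMinWord.pos [Finite ι] {Δ' : Set ι} (hsub : Δ' ⊆ Δ) {l₀ : List ι} {a : ι}
    (h : IsMinWord P Δ' (l₀ ++ [a])) : rprod P l₀ • a ∈ posOf P Δ := by
  by_contra hneg
  have hl₀ : ∀ x ∈ l₀, x ∈ Δ' := fun x hx => h.1 x (List.mem_append_left _ hx)
  obtain ⟨l₁, hl₁, hlen, heq⟩ := exch hΔ l₀ (fun x hx => hsub (hl₀ x hx)) a (hsub h.mem_last) hneg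
  have := h.2 l₁ (fun x hx => hl₀ x (hl₁.subset hx)) (by rw [rprod_snoc, heq])
  simp only [List.length_append, List.length_cons, List.length_nil] at this
  omega

end Exchange

end Groth.Agent.Lib.Helper2.RootD
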